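import Mathlib
import Cfsg.Prelude.Def_PLocal
import Cfsg.Agent.Lib.PLocal.Replacement
import Cfsg.Agent.Lib.PLocal.ThompsonSubgroup
import Cfsg.Agent.Lib.PLocal.Cores
import Cfsg.Agent.Lib.PLocal.GlaubermanReplacement
import Cfsg.Agent.Lib.Coprime.Generation
import Cfsg.Agent.Lib.Coprime.PGroup

/-!
Offenders in a group with self-centralizing `p'`-core acting faithfully on an elementary abelian
`p`-group: the bound, minimal offenders, decomposition.
-/

set_option linter.all false
set_option autoImplicit false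

namespace Cfsg.Agent.PLocal.Offender

open Subgroup Cfsg
open scoped commutatorElement

variable {G : Type*} [Group G]

/-- `H` acts faithfully on `V`, `F` is a normal `p'`-subgroup of `H` containing its centralizer. -/
structure Setup (p : ℕ) (V H F : Subgroup G) : Prop where
  elem : IsElementaryAbelian p V
  norm : H ≤ normalizer (V : Set G)
  faithful : H ⊓ centralizer (V : Set G) = ⊥
  core_le : F ≤ H
  core_norm : H ≤ normalizer (F : Set G)
  core_cop : (Nat.card F).Coprime p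
  core_cent : H ⊓ centralizer (F : Set G) ≤ F

/-- `|A| |C_V(A)| = |V|`. -/
def Full (V A : Subgroup G) : Prop := Nat.card A * Nat.card ↥(V ⊓ centralizer (A : Set G)) = Nat.card V

theorem setup_of [Finite G] {p : ℕ} {V H : Subgroup G} (hV : IsElementaryAbelian p V)
    (hHV : H ≤ normalizer (V : Set G)) (hf : H ⊓ centralizer (V : Set G) = ⊥)
    (hS1 : centralizer (pPrimeCore p ↥H : Set ↥H) ≤ pPrimeCore p ↥H) :
    Setup p V H ((pPrimeCore p ↥H).map H.subtype) := by
  refine ⟨hV, hHV, hf, map_subtype_le _, fun h hh => ?_, ?_, fun h ⟨hh, hc⟩ => ?_⟩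
  · refine GlaubermanReplacement.mem_normalizer_of_conj_mem ?_
    rintro _ ⟨x, hx, rfl⟩
    exact ⟨⟨h, hh⟩ * x * ⟨h, hh⟩⁻¹, (inferInstance : (pPrimeCore p ↥H).Normal).conj_mem x hx _, rfl⟩
  · rw [← Nat.card_congr (equivMapOfInjective _ _ H.subtype_injective).toEquiv]
    exact Cores.coprime_card_pPrimeCore
  · exact ⟨⟨h, hh⟩, hS1 fun x hx => Subtype.ext (hc _ ⟨x, hx, rfl⟩), rfl⟩

theorem le_centralizer_iff_commutator {X Y : Subgroup G} :
    X ≤ centralizer (Y : Set G) ↔ ⁅Y, X⁆ = ⊥ :=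
  Coprime.commutator_eq_bot_iff_le_centralizer'.symm

theorem inf_centralizer_bot (V : Subgroup G) : V ⊓ centralizer ((⊥ : Subgroup G) : Set G) = V :=
  inf_eq_left.mpr fun v _ x hx => by rw [mem_bot.mp hx, one_mul, mul_one]

/-- A commutator subgroup is preserved by a common normalizing element. -/
theorem conj_mem_commutator {X Y : Subgroup G} {g : G} (hX : g ∈ normalizer (X : Set G))
    (hY : g ∈ normalizer (Y : Set G)) : g ∈ normalizer ((⁅X, Y⁆ : Subgroup G) : Set G) := by
  rw [mem_normalizer_iff_map_conj_eq, map_commutator, mem_normalizer_iff_map_conj_eq.mp hX,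
    mem_normalizer_iff_map_conj_eq.mp hY]

theorem le_normalizer_centralizer {X Y : Subgroup G} (h : X ≤ normalizer (Y : Set G)) :
    X ≤ normalizer (centralizer (Y : Set G) : Set G) := by
  intro g hg
  have key : ∀ g ∈ normalizer (Y : Set G), ∀ c ∈ centralizer (Y : Set G),
      g * c * g⁻¹ ∈ centralizer (Y : Set G) := by
    intro g hg c hc y hy
    have hy' : g⁻¹ * y * g ∈ Y := by simpa using (mem_normalizer_iff.mp (inv_mem hg) y).mp hy
    calc y * (g * c * g⁻¹) = g * ((g⁻¹ * y * g) * c) * g⁻¹ := by group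
      _ = g * (c * (g⁻¹ * y * g)) * g⁻¹ := by rw [hc _ hy']
      _ = g * c * g⁻¹ * y := by group
  refine mem_normalizer_iff.mpr fun c => ⟨key g (h hg) c, fun hc => ?_⟩
  have := key g⁻¹ (inv_mem (h hg)) _ hc
  simpa [mul_assoc] using this

theorem le_normalizer_inf {X Y Z : Subgroup G} (hY : X ≤ normalizer (Y : Set G))
    (hZ : X ≤ normalizer (Z : Set G)) : X ≤ normalizer ((Y ⊓ Z : Subgroup G) : Set G) :=
  fun x hx => mem_normalizer_iff.mpr fun y => by
    rw [mem_inf, mem_inf, mem_normalizer_iff.mp (hY hx) y, mem_normalizer_iff.mp (hZ hx) y]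

variable [Finite G] {p : ℕ} [hp : Fact p.Prime] {V H F : Subgroup G}

theorem prime_sq_noncyclic {A : Subgroup G} (hA : IsElementaryAbelian p A) (h : p < Nat.card A) :
    ¬ IsCyclic A := by
  intro hc
  obtain ⟨g, hg⟩ := hc.exists_generator
  have h1 : orderOf g = Nat.card A := orderOf_eq_card_of_forall_mem_zpowers hg
  have h2 : orderOf g ∣ p := orderOf_dvd_of_pow_eq_one (Subtype.ext (hA.2 g g.2))
  have := Nat.le_of_dvd hp.out.pos h2
  omega

theorem card_eq_p_of_ne_one {a : G} (ha : a ^ p = 1) (ha1 : a ≠ 1) : Nat.card (zpowers a) = p := by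
  rw [Nat.card_zpowers]; exact orderOf_eq_prime ha ha1

theorem inf_zpowers_eq_bot {B : Subgroup G} {a : G} (ha : a ^ p = 1) (haB : a ∉ B) :
    B ⊓ zpowers a = ⊥ := by
  rw [eq_bot_iff]
  rintro x ⟨hxB, hxa⟩
  by_contra hx
  have ha1 : a ≠ 1 := fun h => haB (h ▸ one_mem _)
  have hcard := card_eq_p_of_ne_one ha ha1
  have hle : zpowers x ≤ zpowers a := zpowers_le.mpr hxa
  have hxp : Nat.card (zpowers x) = p := by
    rw [Nat.card_zpowers]
    rcases (Nat.dvd_prime hp.out).mp (hcard ▸ orderOf_dvd_natCard _ hxa : orderOf x ∣ p) with h | h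
    · exact absurd (orderOf_eq_one_iff.mp h) hx
    · exact h
  have := eq_of_le_of_card_ge hle (by rw [hcard, hxp])
  exact haB ((zpowers_le.mpr hxB) (this.symm ▸ mem_zpowers a))

theorem card_sup_zpowers {A B : Subgroup G} (hA : IsElementaryAbelian p A) (hBA : B ≤ A) {a : G}
    (ha : a ∈ A) (haB : a ∉ B) : Nat.card ↥(B ⊔ zpowers a) = p * Nat.card B := by
  have hnorm : zpowers a ≤ normalizer (B : Set G) := zpowers_le.mpr (centralizer_le_normalizer _
    fun x hx => (ThompsonSubgroup.isElementaryAbelian_iff.mp hA).1 x (hBA hx) a ha)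
  have h := GlaubermanReplacement.card_sup_mul_card_inf hnorm
  rw [sup_comm, inf_comm, inf_zpowers_eq_bot (hA.2 a ha) haB, card_bot, mul_one,
    card_eq_p_of_ne_one (hA.2 a ha) (fun h => haB (h ▸ one_mem _))] at h
  exact h

theorem coprime_of_elementary {A : Subgroup G} (hA : IsElementaryAbelian p A) {K : Subgroup G}
    (hK : (Nat.card K).Coprime p) : (Nat.card A).Coprime (Nat.card K) := by
  obtain ⟨n, hn⟩ := (ThompsonSubgroup.IsElementaryAbelian.isPGroup hA).exists_card_eq
  rw [hn]; exact (hK.pow_right n).symm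

/-- Some hyperplane of `A` avoiding `b` has fixed points in `F` which `b` does not centralize. -/
theorem exists_hyperplane (s : Setup p V H F) {A : Subgroup G} (hAH : A ≤ H)
    (hA : IsElementaryAbelian p A) {b : G} (hb : b ∈ A) (hb1 : b ≠ 1) :
    ∃ B, B ≤ A ∧ b ∉ B ∧ p * Nat.card B = Nat.card A ∧
      b ∉ centralizer ((F ⊓ centralizer (B : Set G) : Subgroup G) : Set G) := by
  obtain ⟨B, ⟨hBA, hB⟩, hmax⟩ := Set.exists_max_image
    {B : Subgroup G | B ≤ A ∧ b ∉ centralizer ((F ⊓ centralizer (B : Set G) : Subgroup G) : Set G)}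
    (fun B => Nat.card B) (Set.toFinite _) (by
      refine ⟨⊥, bot_le, fun h => hb1 ?_⟩
      rw [inf_centralizer_bot] at h
      have hbF : b ∈ F := s.core_cent ⟨hAH hb, h⟩
      have h0 : A ⊓ F = ⊥ := Coprime.disjoint_of_coprime (coprime_of_elementary hA s.core_cop) |>.eq_bot
      exact mem_bot.mp (h0 ▸ (⟨hb, hbF⟩ : b ∈ A ⊓ F)))
  have hAc := (ThompsonSubgroup.isElementaryAbelian_iff.mp hA).1
  have hbB : b ∉ B := fun h => hB fun x hx => (hx.2 b h).symm
  refine ⟨B, hBA, hbB, ?_, hB⟩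
  by_contra hne
  obtain ⟨a₁, ha₁, ha₁B⟩ := SetLike.exists_of_lt (lt_of_le_of_ne hBA fun h => hbB (h ▸ hb))
  have hB1 := card_sup_zpowers hA hBA ha₁ ha₁B
  have hB1A : B ⊔ zpowers a₁ ≤ A := sup_le hBA (zpowers_le.mpr ha₁)
  have hlt : B ⊔ zpowers a₁ < A := lt_of_le_of_ne hB1A fun h => hne (by rw [← hB1, h])
  obtain ⟨a₂, ha₂, ha₂B⟩ := SetLike.exists_of_lt hlt
  set A1 := zpowers a₁ ⊔ zpowers a₂ with hA1
  have hA1A : A1 ≤ A := sup_le (zpowers_le.mpr ha₁) (zpowers_le.mpr ha₂)
  have hA1e : IsElementaryAbelian p A1 := ThompsonSubgroup.IsElementaryAbelian.mono hA hA1A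
  haveI : IsMulCommutative A1 := hA1e.1
  have hc : Nat.card A1 = p * p := by
    rw [hA1, card_sup_zpowers hA (zpowers_le.mpr ha₁) ha₂ (fun h => ha₂B (mem_sup_right h)),
      card_eq_p_of_ne_one (hA.2 a₁ ha₁) (fun h => ha₁B (h ▸ one_mem _))]
  set K := F ⊓ centralizer (B : Set G) with hK
  have hA1K : A1 ≤ normalizer (K : Set G) := le_normalizer_inf ((hA1A.trans hAH).trans s.core_norm)
    (le_normalizer_centralizer ((fun x hx => centralizer_le_normalizer _
      fun y hy => hAc y (hBA hy) x (hA1A hx)) : A1 ≤ normalizer (B : Set G)))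
  have hgen := Coprime.fixedGen_eq (prime_sq_noncyclic hA1e (by
      rw [hc]; nlinarith [hp.out.two_le])) hA1K
    (coprime_of_elementary hA1e (s.core_cop.coprime_dvd_left (card_dvd_of_le inf_le_left)))
  refine hB ?_
  rw [← zpowers_le, le_centralizer_iff]
  conv_lhs => rw [← hgen]
  refine iSup₂_le fun a ha => ?_
  obtain ⟨haA1, ha1⟩ := ha
  by_contra hnle
  have haB : a ∉ B := by
    intro haB
    refine ha1 ?_
    -- `A1` meets `B` trivially
    have h1 : Nat.card ↥(A1 ⊔ B) = p * (p * Nat.card B) := by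
      rw [hA1, sup_comm, ← sup_assoc, card_sup_zpowers hA hB1A ha₂ ha₂B, hB1]
    have h2 := GlaubermanReplacement.card_sup_mul_card_inf (A := A1) (B := B)
      (fun x hx => centralizer_le_normalizer _ fun y hy => hAc y (hBA hy) x (hA1A hx))
    rw [h1, hc] at h2
    have h3 : Nat.card ↥(A1 ⊓ B) = 1 := by
      have hpos : 0 < p * (p * Nat.card B) := Nat.mul_pos hp.out.pos (Nat.mul_pos hp.out.pos Nat.card_pos)
      refine Nat.eq_of_mul_eq_mul_left hpos ?_
      rw [h2, mul_one]; ring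
    exact mem_bot.mp ((card_eq_one.mp h3) ▸ (⟨haA1, haB⟩ : a ∈ A1 ⊓ B))
  have hmx := hmax (B ⊔ zpowers a) ⟨sup_le hBA (zpowers_le.mpr (hA1A haA1)), fun h => hnle ?_⟩
  · rw [card_sup_zpowers hA hBA (hA1A haA1) haB] at hmx
    have := hp.out.two_le
    have := Nat.card_pos (α := B)
    nlinarith
  · rw [le_centralizer_iff, zpowers_le]
    intro x hx
    refine h x (mem_inf.mpr ⟨hx.1.1, ?_⟩)
    intro y hy
    have hle : B ⊔ zpowers a ≤ centralizer ({x} : Set G) := by
      refine sup_le (fun z hz => ?_) (zpowers_le.mpr ?_)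
      · exact mem_centralizer_singleton_iff.mpr (hx.1.2 z hz)
      · exact mem_centralizer_singleton_iff.mpr (hx.2 a rfl)
    exact mem_centralizer_singleton_iff.mp (hle hy)

theorem inf_centralizer_bot_of (s : Setup p V H F) {A : Subgroup G} (hAH : A ≤ H) :
    A ⊓ centralizer (V : Set G) = ⊥ :=
  le_bot_iff.mp (s.faithful ▸ inf_le_inf_right _ hAH)

/-- The fixed points of such a hyperplane are strictly larger. -/
theorem fixed_lt (s : Setup p V H F) {A B : Subgroup G} (hAH : A ≤ H) (hA : IsElementaryAbelian p A)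
    {b : G} (hb : b ∈ A) (hBA : B ≤ A)
    (hbB : b ∉ centralizer ((F ⊓ centralizer (B : Set G) : Subgroup G) : Set G)) :
    p * Nat.card ↥(V ⊓ centralizer (A : Set G)) ≤ Nat.card ↥(V ⊓ centralizer (B : Set G)) := by
  set W := V ⊓ centralizer (B : Set G) with hW
  set WA := V ⊓ centralizer (A : Set G) with hWA
  have hle : WA ≤ W := inf_le_inf_left _ (centralizer_le hBA)
  have hVp : IsPGroup p V := ThompsonSubgroup.IsElementaryAbelian.isPGroup s.elem
  have hne : WA ≠ W := by
    intro he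
    set K := F ⊓ centralizer (B : Set G) with hK
    have hAc := (ThompsonSubgroup.isElementaryAbelian_iff.mp hA).1
    have hAK : A ≤ normalizer (K : Set G) := le_normalizer_inf (hAH.trans s.core_norm)
      (le_normalizer_centralizer (fun x hx => centralizer_le_normalizer _
        fun y hy => hAc y (hBA hy) x hx))
    have hKH : K ≤ H := inf_le_left.trans s.core_le
    set Q := ⁅K, A⁆ with hQ
    have hQK : Q ≤ K := Coprime.commutator_le_of_le_normalizer hAK
    have hKW : K ≤ normalizer (W : Set G) := le_normalizer_inf (hKH.trans s.norm)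
      (le_normalizer_centralizer ((inf_le_right.trans (centralizer_le_normalizer _)) :
        K ≤ normalizer (B : Set G)))
    have hQW : W ⊓ centralizer (B : Set G) ≤ centralizer (Q : Set G) := by
      refine inf_le_left.trans ?_
      rw [le_centralizer_iff, ← commutator_eq_bot_iff_le_centralizer, hQ]
      have h0 : ⁅W, A⁆ = ⊥ := le_centralizer_iff_commutator.mp
        (le_centralizer_iff.mp (he ▸ inf_le_right : W ≤ centralizer (A : Set G)))
      apply commutator_commutator_eq_bot_of_rotate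
      · rw [commutator_comm A W, h0, commutator_bot_left]
      · refine le_bot_iff.mp ((commutator_mono ?_ le_rfl).trans h0.le)
        exact le_normalizer_iff_commutator_le_left.mp hKW
    have hQc : Q ≤ centralizer (V : Set G) := by
      refine Coprime.le_centralizer_of_pxq
        ((ThompsonSubgroup.IsElementaryAbelian.isPGroup hA).to_le hBA)
        (s.core_cop.coprime_dvd_left (card_dvd_of_le (hQK.trans inf_le_left))) hVp
        (le_centralizer_iff.mp (hQK.trans inf_le_right)) ((hBA.trans hAH).trans s.norm)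
        ((hQK.trans hKH).trans s.norm) ?_
      intro x hx
      exact hQW ⟨⟨hx.1, hx.2⟩, hx.2⟩
    refine hbB ((le_centralizer_iff_commutator.mpr ?_) hb)
    rw [← hQ]
    exact le_bot_iff.mp (s.faithful ▸ le_inf (hQK.trans hKH) hQc)
  have hlt : Nat.card WA < Nat.card W := by
    rcases Nat.lt_or_ge (Nat.card WA) (Nat.card W) with h | h
    · exact h
    · exact absurd (eq_of_le_of_card_ge hle h) hne
  obtain ⟨m, hm⟩ := (hVp.to_le (inf_le_left : WA ≤ V)).exists_card_eq
  obtain ⟨n, hn⟩ := (hVp.to_le (inf_le_left : W ≤ V)).exists_card_eq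
  rw [hm, hn] at hlt ⊢
  rw [← pow_succ']
  exact Nat.pow_le_pow_right hp.out.pos ((Nat.pow_lt_pow_iff_right hp.out.one_lt).mp hlt)

theorem weight_le (s : Setup p V H F) : ∀ {A : Subgroup G}, A ≤ H → IsElementaryAbelian p A →
    Nat.card A * Nat.card ↥(V ⊓ centralizer (A : Set G)) ≤ Nat.card V := by
  intro A
  induction hn : Nat.card A using Nat.strong_induction_on generalizing A with
  | _ n IH =>
  intro hAH hA
  rcases eq_or_ne A ⊥ with rfl | hne
  · rw [← hn, card_bot, one_mul, inf_centralizer_bot]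
  obtain ⟨b, hb, hb1⟩ := (bot_or_exists_ne_one A).resolve_left hne
  obtain ⟨B, hBA, -, hBc, hbC⟩ := exists_hyperplane s hAH hA hb hb1
  have h1 := fixed_lt s hAH hA hb hBA hbC
  have h2 := IH (Nat.card B) (by
    rw [← hn, ← hBc]
    exact lt_mul_of_one_lt_left Nat.card_pos hp.out.one_lt) rfl (hBA.trans hAH)
      (ThompsonSubgroup.IsElementaryAbelian.mono hA hBA)
  calc n * Nat.card ↥(V ⊓ centralizer (A : Set G))
      = Nat.card B * (p * Nat.card ↥(V ⊓ centralizer (A : Set G))) := by rw [← hn, ← hBc]; ring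
    _ ≤ Nat.card B * Nat.card ↥(V ⊓ centralizer (B : Set G)) := Nat.mul_le_mul_left _ h1
    _ ≤ _ := h2

/-- In the setup a best offender is exactly a full elementary abelian subgroup. -/
theorem isBestOffender_iff (s : Setup p V H F) {A : Subgroup G} (hAH : A ≤ H) :
    IsBestOffenderOn p V A ↔ IsElementaryAbelian p A ∧ Full V A := by
  have h0 := inf_centralizer_bot_of s hAH
  constructor
  · rintro ⟨hmax, hab, hpow⟩
    have hA : IsElementaryAbelian p A := by
      refine ⟨commutator_self_eq_bot_iff.mp (le_bot_iff.mp ?_), fun a ha => ?_⟩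
      · exact h0 ▸ le_inf (le_normalizer_iff_commutator_le_left.mp le_normalizer) hab
      · exact mem_bot.mp (h0 ▸ (⟨pow_mem ha p, hpow a ha⟩ : a ^ p ∈ A ⊓ centralizer (V : Set G)))
    refine ⟨hA, le_antisymm (weight_le s hAH hA) ?_⟩
    have := hmax ⊥ bot_le
    rwa [card_bot, one_mul, inf_centralizer_bot] at this
  · rintro ⟨hA, hF⟩
    refine ⟨fun B hB => ?_, ?_, fun a ha => ?_⟩
    · rw [hF]; exact weight_le s (hB.trans hAH) (ThompsonSubgroup.IsElementaryAbelian.mono hA hB)
    · rw [commutator_self_eq_bot_iff.mpr hA.1]; exact bot_le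
    · rw [hA.2 a ha]; exact one_mem _

theorem commutator_ne_bot (s : Setup p V H F) {A : Subgroup G} (hAH : A ≤ H) (hA1 : A ≠ ⊥) :
    ⁅V, A⁆ ≠ ⊥ := fun h => hA1 (le_bot_iff.mp (inf_centralizer_bot_of s hAH ▸
      le_inf le_rfl (le_centralizer_iff_commutator.mpr h)))

theorem full_hyperplane (s : Setup p V H F) {A : Subgroup G} (hAH : A ≤ H)
    (hA : IsElementaryAbelian p A) (hF : Full V A) {b : G} (hb : b ∈ A) (hb1 : b ≠ 1) :
    ∃ B, B ≤ A ∧ b ∉ B ∧ p * Nat.card B = Nat.card A ∧ Full V B := by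
  obtain ⟨B, hBA, hbB, hBc, hbC⟩ := exists_hyperplane s hAH hA hb hb1
  refine ⟨B, hBA, hbB, hBc, le_antisymm (weight_le s (hBA.trans hAH)
    (ThompsonSubgroup.IsElementaryAbelian.mono hA hBA)) ?_⟩
  calc Nat.card V = Nat.card A * Nat.card ↥(V ⊓ centralizer (A : Set G)) := hF.symm
    _ = Nat.card B * (p * Nat.card ↥(V ⊓ centralizer (A : Set G))) := by rw [← hBc]; ring
    _ ≤ _ := Nat.mul_le_mul_left _ (fixed_lt s hAH hA hb hBA hbC)

/-- A minimal nontrivially acting best offender has order `p`. -/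
theorem card_of_minimal (s : Setup p V H F) {A : Subgroup G} (hAH : A ≤ H)
    (hA : IsBestOffenderOn p V A) (hAV : ⁅V, A⁆ ≠ ⊥)
    (hmin : ∀ B : Subgroup G, B ≤ A → IsBestOffenderOn p V B → ⁅V, B⁆ ≠ ⊥ → B = A) :
    IsElementaryAbelian p A ∧ Full V A ∧ Nat.card A = p := by
  obtain ⟨he, hF⟩ := (isBestOffender_iff s hAH).mp hA
  refine ⟨he, hF, ?_⟩
  have hne : A ≠ ⊥ := fun h => hAV (by rw [h, commutator_bot_right])
  obtain ⟨b, hb, hb1⟩ := (bot_or_exists_ne_one A).resolve_left hne
  obtain ⟨B, hBA, hbB, hBc, hBF⟩ := full_hyperplane s hAH he hF hb hb1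
  by_contra hc
  have hB1 : B ≠ ⊥ := fun h => hc (by rw [← hBc, h, card_bot, mul_one])
  exact hbB (hmin B hBA ((isBestOffender_iff s (hBA.trans hAH)).mpr
    ⟨ThompsonSubgroup.IsElementaryAbelian.mono he hBA, hBF⟩) (commutator_ne_bot s (hBA.trans hAH) hB1) ▸ hb)

theorem minimal_of_card (s : Setup p V H F) {A : Subgroup G} (hAH : A ≤ H) (hc : Nat.card A = p)
    (hF : Full V A) :
    IsBestOffenderOn p V A ∧ ⁅V, A⁆ ≠ ⊥ ∧
      ∀ B : Subgroup G, B ≤ A → IsBestOffenderOn p V B → ⁅V, B⁆ ≠ ⊥ → B = A := by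
  haveI := isCyclic_of_prime_card (p := p) hc
  have hA : IsElementaryAbelian p A := ⟨inferInstance, fun a ha =>
    orderOf_dvd_iff_pow_eq_one.mp (hc ▸ A.orderOf_dvd_natCard ha)⟩
  refine ⟨(isBestOffender_iff s hAH).mpr ⟨hA, hF⟩, commutator_ne_bot s hAH ?_, fun B hB _ hBV => ?_⟩
  · intro h; rw [h, card_bot] at hc; exact hp.out.ne_one hc.symm
  · rcases (Nat.dvd_prime hp.out).mp (hc ▸ card_dvd_of_le hB) with h | h
    · exact absurd (by rw [card_eq_one.mp h, commutator_bot_right]) hBV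
    · exact eq_of_le_of_card_ge hB (by rw [hc, h])

/-- Full subgroups of order `p` outside a proper subgroup. -/
theorem exists_point (s : Setup p V H F) {B : Subgroup G} : ∀ {A : Subgroup G}, A ≤ H →
    IsElementaryAbelian p A → Full V A → ¬ A ≤ B →
    ∃ C ≤ A, Nat.card C = p ∧ Full V C ∧ ¬ C ≤ B := by
  intro A
  induction hn : Nat.card A using Nat.strong_induction_on generalizing A with
  | _ n IH =>
  intro hAH hA hF hAB
  obtain ⟨a, ha, haB⟩ := SetLike.not_le_iff_exists.mp hAB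
  have ha1 : a ≠ 1 := fun h => haB (h ▸ one_mem _)
  obtain ⟨B₁, h₁A, -, h₁c, h₁F⟩ := full_hyperplane s hAH hA hF ha ha1
  by_cases hsmall : B₁ = ⊥
  · exact ⟨A, le_rfl, by rw [← h₁c, hsmall, card_bot, mul_one], hF, hAB⟩
  obtain ⟨b, hb, hb1⟩ := (bot_or_exists_ne_one B₁).resolve_left hsmall
  obtain ⟨B₂, h₂A, hb₂, h₂c, h₂F⟩ := full_hyperplane s hAH hA hF (h₁A hb) hb1
  have hsup : B₁ ⊔ B₂ = A := by
    refine eq_of_le_of_card_ge (sup_le h₁A h₂A) ?_
    have hlt : B₂ ⊔ zpowers b ≤ B₁ ⊔ B₂ := sup_le le_sup_right ((zpowers_le.mpr hb).trans le_sup_left)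
    have h := card_le_card_group (H := (⊥ : Subgroup G))
    have hcard := card_sup_zpowers hA h₂A (h₁A hb) hb₂
    rw [h₂c] at hcard
    rw [← hcard]
    exact Nat.le_of_dvd Nat.card_pos (card_dvd_of_le hlt)
  have hlt : ∀ C : Subgroup G, p * Nat.card C = Nat.card A → Nat.card C < n := fun C hC => by
    rw [← hn, ← hC]; exact lt_mul_of_one_lt_left Nat.card_pos hp.out.one_lt
  by_cases h1 : B₁ ≤ B
  · by_cases h2 : B₂ ≤ B
    · exact absurd (hsup ▸ sup_le h1 h2) hAB
    · obtain ⟨C, hC, h⟩ := IH _ (hlt B₂ h₂c) rfl (h₂A.trans hAH)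
        (ThompsonSubgroup.IsElementaryAbelian.mono hA h₂A) h₂F h2
      exact ⟨C, hC.trans h₂A, h⟩
  · obtain ⟨C, hC, h⟩ := IH _ (hlt B₁ h₁c) rfl (h₁A.trans hAH)
      (ThompsonSubgroup.IsElementaryAbelian.mono hA h₁A) h₁F h1
    exact ⟨C, hC.trans h₁A, h⟩

/-- A full subgroup is the direct product of full subgroups of order `p`. -/
theorem exists_decomposition (s : Setup p V H F) : ∀ {A : Subgroup G}, A ≤ H →
    IsElementaryAbelian p A → Full V A →
    ∃ (k : ℕ) (B : Fin k → Subgroup G), (∀ i, B i ≤ A ∧ Nat.card (B i) = p ∧ Full V (B i)) ∧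
      iSupIndep B ∧ ⨆ i, B i = A := by
  intro A
  induction hn : Nat.card A using Nat.strong_induction_on generalizing A with
  | _ n IH =>
  intro hAH hA hF
  rcases eq_or_ne A ⊥ with rfl | hne
  · exact ⟨0, Fin.elim0, fun i => i.elim0, fun i => i.elim0, by simp⟩
  obtain ⟨a, ha, ha1⟩ := (bot_or_exists_ne_one A).resolve_left hne
  obtain ⟨M, hMA, haM, hMc, hMF⟩ := full_hyperplane s hAH hA hF ha ha1
  obtain ⟨C, hCA, hCc, hCF, hCM⟩ := exists_point s (B := M) hAH hA hF (fun h => haM (h ha))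
  obtain ⟨k, B, hB, hind, hsup⟩ := IH _ (by
    rw [← hn, ← hMc]; exact lt_mul_of_one_lt_left Nat.card_pos hp.out.one_lt) rfl (hMA.trans hAH)
    (ThompsonSubgroup.IsElementaryAbelian.mono hA hMA) hMF
  have hAc := (ThompsonSubgroup.isElementaryAbelian_iff.mp hA).1
  have hCM' : C ⊓ M = ⊥ := by
    rw [← card_eq_one]
    rcases (Nat.dvd_prime hp.out).mp (hCc ▸ card_dvd_of_le (inf_le_left : C ⊓ M ≤ C)) with h | h
    · exact h
    · exact absurd (inf_eq_left.mp (eq_of_le_of_card_ge inf_le_left (by rw [hCc, h]))) hCM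
  have hCN : ∀ X : Subgroup G, X ≤ A → C ≤ normalizer (X : Set G) := fun X hX x hx =>
    centralizer_le_normalizer _ fun y hy => hAc y (hX hy) x (hCA hx)
  refine ⟨k + 1, Fin.cons C B, Fin.cases (by simpa using ⟨hCA, hCc, hCF⟩) (fun i => by
    simpa using ⟨(hB i).1.trans hMA, (hB i).2⟩), fun i => ?_, ?_⟩
  · rw [disjoint_iff, eq_bot_iff]
    refine Fin.cases ?_ (fun i => ?_) i
    · simp only [Fin.cons_zero]
      refine le_trans (inf_le_inf_left _ (iSup₂_le fun j hj => ?_)) hCM'.le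
      obtain ⟨j', rfl⟩ := Fin.exists_succ_eq.mpr hj
      simpa using (hB j').1
    · simp only [Fin.cons_succ]
      set R := ⨆ j, ⨆ (_ : j ≠ i), B j with hR
      have hRM : R ≤ M := iSup₂_le fun j _ => (hB j).1
      rintro x ⟨hxi, hx⟩
      have hle : (⨆ j, ⨆ (_ : j ≠ i.succ), (Fin.cons C B : Fin (k + 1) → Subgroup G) j) ≤ R ⊔ C := by
        refine iSup₂_le fun j hj => ?_
        revert hj
        refine Fin.cases ?_ (fun j => ?_) j <;> intro hj
        · simp
        · simp only [Fin.cons_succ]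
          exact le_sup_of_le_left (le_iSup₂_of_le j (fun h => hj (by rw [h])) le_rfl)
      obtain ⟨r, hr, c, hc, rfl⟩ := (Coprime.mem_sup_of_le_normalizer
        (N := R) (H := C) (hCN R (hRM.trans hMA))).mp (hle hx)
      have hcM : c ∈ M := (mul_mem_cancel_left (hRM hr)).mp ((hB i).1 hxi)
      have hc1 : c = 1 := mem_bot.mp (hCM' ▸ (⟨hc, hcM⟩ : c ∈ C ⊓ M))
      subst hc1
      rw [mul_one] at hxi ⊢
      exact (disjoint_iff.mp (hind i)).le ⟨hxi, hr⟩
  · refine eq_of_le_of_card_ge (iSup_le (Fin.cases (by simpa using hCA) fun i => by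
      simpa using (hB i).1.trans hMA)) ?_
    have hle : C ⊔ M ≤ ⨆ i, (Fin.cons C B : Fin (k + 1) → Subgroup G) i := by
      refine sup_le (le_iSup_of_le 0 (by simp)) (hsup ▸ iSup_le fun i => le_iSup_of_le i.succ (by simp))
    have hcard := GlaubermanReplacement.card_sup_mul_card_inf (hCN M hMA)
    rw [hCM', card_bot, mul_one, hCc, hMc] at hcard
    rw [← hcard]
    exact Nat.le_of_dvd Nat.card_pos (card_dvd_of_le hle)

/-- A subgroup of order `p` has commutator of order `p` and fixed points of index `p` when full. -/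
theorem point_facts (s : Setup p V H F) {A : Subgroup G} (hAH : A ≤ H) (hc : Nat.card A = p)
    (hF : Full V A) :
    Nat.card ↥(⁅V, A⁆) = p ∧ (V ⊓ centralizer (A : Set G)).relIndex V = p := by
  have hne : A ≠ ⊥ := fun h => hp.out.ne_one (by rw [← hc, h, card_bot])
  obtain ⟨a, ha, ha1⟩ := (bot_or_exists_ne_one A).resolve_left hne
  have hAz : zpowers a = A := eq_of_le_of_card_ge (zpowers_le.mpr ha) (by
    rw [Nat.card_zpowers, hc]
    rcases (Nat.dvd_prime hp.out).mp (hc ▸ A.orderOf_dvd_natCard ha) with h | h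
    · exact absurd (orderOf_eq_one_iff.mp h) ha1
    · exact h.ge)
  have hidx : (V ⊓ centralizer (A : Set G)).relIndex V = p := by
    have h := relIndex_mul_relIndex ⊥ (V ⊓ centralizer (A : Set G)) V bot_le inf_le_left
    rw [relIndex_bot_left, relIndex_bot_left, ← show _ = Nat.card V from hF, hc, mul_comm p] at h
    exact Nat.eq_of_mul_eq_mul_left Nat.card_pos h
  refine ⟨?_, hidx⟩
  have hVc := (ThompsonSubgroup.isElementaryAbelian_iff.mp s.elem).1
  have haV : ∀ v ∈ V, a * v * a⁻¹ ∈ V := fun v hv => (mem_normalizer_iff.mp (s.norm (hAH ha)) v).mp hv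
  have hmem : ∀ v : V, ⁅(v : G), a⁆ ∈ V := fun v => by
    rw [commutatorElement_def, mul_assoc, mul_assoc, ← mul_assoc a]
    exact mul_mem v.2 (haV _ (inv_mem v.2))
  let φ : V →* G :=
    { toFun := fun v => ⁅(v : G), a⁆
      map_one' := by simp
      map_mul' := fun x y => by
        show ⁅(x : G) * y, a⁆ = ⁅(x : G), a⁆ * ⁅(y : G), a⁆
        rw [commutatorElement_mul_left_eq_conj_mul, hVc _ x.2 _ (hmem y), mul_inv_cancel_right,
          hVc _ (hmem y) _ (hmem x)] }
  have hrange : φ.range = ⁅V, A⁆ := by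
    apply le_antisymm
    · rintro _ ⟨v, rfl⟩; exact commutator_mem_commutator v.2 ha
    · rw [commutator_le]
      intro v hv x hx
      rw [← hAz] at hx
      obtain ⟨n, rfl⟩ : ∃ n : ℕ, a ^ n = x := mem_powers_iff_mem_zpowers.mpr hx
      induction n with
      | zero => rw [pow_zero, commutatorElement_one_right]; exact one_mem _
      | succ n ih =>
        obtain ⟨w, hw⟩ := ih (pow_mem (mem_zpowers a) n)
        have : ⁅v, a ^ (n + 1)⁆ = ⁅v, a⁆ * (a * ⁅v, a ^ n⁆ * a⁻¹) := by
          simp only [commutatorElement_def, pow_succ']; group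
        rw [this, ← hw]
        refine mul_mem ⟨⟨v, hv⟩, rfl⟩ ⟨⟨_, haV _ w.2⟩, ?_⟩
        show ⁅a * (w : G) * a⁻¹, a⁆ = a * ⁅(w : G), a⁆ * a⁻¹
        simp only [commutatorElement_def]; group
  have hker : φ.ker = (V ⊓ centralizer (A : Set G)).subgroupOf V := by
    ext v
    rw [MonoidHom.mem_ker, mem_subgroupOf, mem_inf]
    show ⁅(v : G), a⁆ = 1 ↔ _
    rw [commutatorElement_eq_one_iff_mul_comm]
    constructor
    · intro h
      refine ⟨v.2, fun x hx => ?_⟩
      rw [← hAz] at hx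
      obtain ⟨n, rfl⟩ := mem_zpowers_iff.mp hx
      exact ((show Commute a (v : G) from h.symm).zpow_left n).eq
    · exact fun h => (h.2 a ha).symm
  rw [← hrange, ← index_ker, hker]
  exact hidx

end Cfsg.Agent.PLocal.Offender
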