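import Mathlib
import Cfsg.Agent.Lib.PLocal.Offender.Basic
import Cfsg.Agent.Lib.PLocal.PSolvable
import Cfsg.Agent.Lib.PLocal.Omega
import Cfsg.Agent.S0606

/-!
The action of a group on a normal elementary abelian subgroup, made faithful inside a semidirect
product.
-/

set_option linter.all false
set_option autoImplicit false

namespace Cfsg.Agent.PLocal.Offender

open Subgroup Cfsg
open scoped commutatorElement

/-- In a `p`-solvable group with trivial `p`-core the `p'`-core contains its centralizer. -/
theorem centralizer_pPrimeCore_le {M : Type*} [Group M] [Finite M] {p : ℕ} [hp : Fact p.Prime]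
    (hO : pCore p M = ⊥) (hsep : IsPSolvable p M) :
    centralizer (pPrimeCore p M : Set M) ≤ pPrimeCore p M := by
  set C := centralizer (pPrimeCore p M : Set M) with hC
  have hCn : C.Normal := inferInstance
  by_contra hcon
  set Z := (pPrimeCore p M).subgroupOf C with hZdef
  set q := QuotientGroup.mk' Z
  have hne : Nontrivial (C ⧸ Z) :=
    QuotientGroup.nontrivial_iff.mpr fun h => hcon (subgroupOf_eq_top.mp h)
  have hq := QuotientGroup.mk'_surjective Z
  have hZcop : (Nat.card Z).Coprime p := by
    refine Nat.Coprime.coprime_dvd_left ?_ (Cores.coprime_card_pPrimeCore (G := M))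
    rw [← card_map_of_injective C.subtype_injective]
    exact card_dvd_of_le (by rintro _ ⟨x, hx, rfl⟩; exact hx)
  rcases PSolvable.exists_core_ne_bot (PSolvable.quotient (PSolvable.subgroup hsep C) Z) with h | h
  · refine h (le_bot_iff.mp ?_)
    set T := (pCore p (C ⧸ Z)).comap q with hTdef
    let f : T →* C ⧸ Z := q.comp T.subtype
    have hfp : IsPGroup p f.range := by
      refine Cores.isPGroup_pCore.to_le ?_
      rintro _ ⟨x, rfl⟩; exact x.2
    haveI := hfp.isNilpotent
    have hker : f.rangeRestrict.ker ≤ center T := by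
      intro x hx
      rw [MonoidHom.ker_rangeRestrict, MonoidHom.mem_ker] at hx
      have hxZ : (x : C) ∈ Z := (QuotientGroup.eq_one_iff _).mp hx
      refine mem_center_iff.mpr fun g => Subtype.ext (Subtype.ext ?_)
      exact ((g : C).2 _ hxZ).symm
    haveI : Group.IsNilpotent T := Subgroup.isNilpotent_of_ker_le_center f.rangeRestrict hker
    obtain ⟨P⟩ : Nonempty (Sylow p T) := inferInstance
    haveI hPn : (P : Subgroup T).Normal := P.normal_of_normalizerCondition Group.normalizerCondition_of_isNilpotent
    have h1 : pCore p T = ⊥ := by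
      rw [← (pCore p T).map_eq_bot_iff_of_injective T.subtype_injective, ← le_bot_iff]
      refine (Cores.map_subtype_pCore_le T).trans ?_
      rw [le_bot_iff, ← (pCore p C).map_eq_bot_iff_of_injective C.subtype_injective, ← le_bot_iff, ← hO]
      exact Cores.map_subtype_pCore_le C
    have hP1 : (P : Subgroup T) = ⊥ := le_bot_iff.mp (h1 ▸ Cores.le_pCore P.2)
    have hTcop : (Nat.card T).Coprime p := by
      refine ((Nat.Prime.coprime_iff_not_dvd hp.out).mpr fun hd => P.not_dvd_index ?_).symm
      rw [hP1, index_bot]; exact hd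
    have hT' : T ≤ Z := fun x hx =>
      Cores.map_subtype_pPrimeCore_le C ⟨x, Cores.le_pPrimeCore hTcop hx, rfl⟩
    rw [← map_comap_eq_self_of_surjective hq (pCore p (C ⧸ Z)), map_le_iff_le_comap]
    rwa [MonoidHom.comap_bot, QuotientGroup.ker_mk']
  · refine h (le_bot_iff.mp ?_)
    set T := (pPrimeCore p (C ⧸ Z)).comap q with hTdef
    have hTcop : (Nat.card T).Coprime p := by
      rw [hTdef, Cores.card_comap_eq _ hq, QuotientGroup.ker_mk']
      exact hZcop.mul_left Cores.coprime_card_pPrimeCore
    have hT' : T ≤ Z := fun x hx =>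
      Cores.map_subtype_pPrimeCore_le C ⟨x, Cores.le_pPrimeCore hTcop hx, rfl⟩
    rw [← map_comap_eq_self_of_surjective hq (pPrimeCore p (C ⧸ Z)), map_le_iff_le_comap]
    rwa [MonoidHom.comap_bot, QuotientGroup.ker_mk']

namespace Sec

variable {G : Type*} [Group G] (V : Subgroup G) [V.Normal]

/-- The semidirect product of `V` with its automorphism group. -/
abbrev Amb : Type _ := V ⋊[MonoidHom.id (MulAut V)] MulAut V

/-- The action of `G` on `V` as a map into the semidirect product. -/
def img : G →* Amb V := (SemidirectProduct.inr).comp MulAut.conjNormal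

/-- The copy of `V`. -/
def base : Subgroup (Amb V) := (SemidirectProduct.inl : V →* Amb V).range

instance finite_amb [Finite G] : Finite (Amb V) :=
  haveI : Finite (MulAut V) := Finite.of_injective (fun e : MulAut V => (e : V → V)) DFunLike.coe_injective
  Finite.of_equiv _ (SemidirectProduct.equivProd (φ := MonoidHom.id (MulAut V))).symm

theorem conj_inl (g : G) (v : V) :
    img V g * SemidirectProduct.inl v * (img V g)⁻¹ = SemidirectProduct.inl (MulAut.conjNormal g v) := by
  rw [img, MonoidHom.comp_apply, ← map_inv (SemidirectProduct.inr : MulAut V →* Amb V),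
    ← SemidirectProduct.inl_aut]
  rfl

theorem commute_inl_iff (g : G) (v : V) :
    img V g * SemidirectProduct.inl v = SemidirectProduct.inl v * img V g ↔ g * v = v * g := by
  constructor
  · intro h
    have h1 := conj_inl V g v
    rw [h, mul_inv_cancel_right] at h1
    have h2 := congrArg Subtype.val (SemidirectProduct.inl_injective h1)
    rw [MulAut.conjNormal_apply] at h2
    exact (mul_inv_eq_iff_eq_mul.mp h2.symm)
  · intro h
    have h2 : MulAut.conjNormal g v = v := Subtype.ext (by
      rw [MulAut.conjNormal_apply, h, mul_inv_cancel_right])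
    have h1 := conj_inl V g v
    rw [h2] at h1
    exact mul_inv_eq_iff_eq_mul.mp h1

theorem ker_img : (img V).ker = centralizer (V : Set G) := by
  ext g
  rw [MonoidHom.mem_ker, img, MonoidHom.comp_apply,
    (injective_iff_map_eq_one' _).mp SemidirectProduct.inr_injective, mem_centralizer_iff]
  constructor
  · intro h v hv
    have := congrArg (fun e : MulAut V => ((e ⟨v, hv⟩ : V) : G)) h
    simp only [MulAut.conjNormal_apply, MulAut.one_apply] at this
    exact (mul_inv_eq_iff_eq_mul.mp this).symm
  · intro h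
    refine MulEquiv.ext fun v => Subtype.ext ?_
    rw [MulAut.conjNormal_apply, MulAut.one_apply, ← h v v.2, mul_inv_cancel_right]

theorem mem_centralizer_base {g : G} :
    img V g ∈ centralizer (base V : Set (Amb V)) ↔ g ∈ centralizer (V : Set G) := by
  constructor
  · intro h v hv
    exact ((commute_inl_iff V g ⟨v, hv⟩).mp (h _ ⟨⟨v, hv⟩, rfl⟩).symm).symm
  · rintro h _ ⟨v, rfl⟩
    exact ((commute_inl_iff V g v).mpr (h v v.2).symm).symm

theorem range_le_normalizer [Finite G] : (img V).range ≤ normalizer (base V : Set (Amb V)) := by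
  rintro _ ⟨g, rfl⟩
  refine GlaubermanReplacement.mem_normalizer_of_conj_mem ?_
  rintro _ ⟨v, rfl⟩
  exact ⟨_, (conj_inl V g v).symm⟩

theorem faithful (X : Subgroup G) : X.map (img V) ⊓ centralizer (base V : Set (Amb V)) = ⊥ := by
  rw [eq_bot_iff]
  rintro _ ⟨⟨g, -, rfl⟩, h⟩
  have : g ∈ (img V).ker := by rw [ker_img]; exact (mem_centralizer_base V).mp h
  exact mem_bot.mpr this

theorem fixed (X : Subgroup G) :
    base V ⊓ centralizer (X.map (img V) : Set (Amb V)) =
      ((V ⊓ centralizer (X : Set G)).subgroupOf V).map SemidirectProduct.inl := by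
  apply le_antisymm
  · rintro _ ⟨⟨v, rfl⟩, h⟩
    exact ⟨v, ⟨v.2, fun x hx => (commute_inl_iff V x v).mp (h _ ⟨x, hx, rfl⟩)⟩, rfl⟩
  · rintro _ ⟨v, hv, rfl⟩
    refine ⟨⟨v, rfl⟩, ?_⟩
    rintro _ ⟨x, hx, rfl⟩
    exact (commute_inl_iff V x v).mpr (hv.2 x hx)

theorem card_fixed (X : Subgroup G) :
    Nat.card ↥(base V ⊓ centralizer (X.map (img V) : Set (Amb V))) =
      Nat.card ↥(V ⊓ centralizer (X : Set G)) := by
  rw [fixed, card_map_of_injective SemidirectProduct.inl_injective,
    Nat.card_congr (subgroupOfEquivOfLe inf_le_left).toEquiv]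

theorem card_base : Nat.card (base V) = Nat.card V :=
  Nat.card_congr (MonoidHom.ofInjective SemidirectProduct.inl_injective).symm.toEquiv

variable [Finite G] {p : ℕ} [hp : Fact p.Prime]

theorem base_elem (hV : IsElementaryAbelian p V) : IsElementaryAbelian p (base V) := by
  rw [base, MonoidHom.range_eq_map]
  refine ThompsonSubgroup.IsElementaryAbelian.map ?_ _
  have := ThompsonSubgroup.IsElementaryAbelian.comap hV V.subtype_injective
  rwa [← subgroupOf, subgroupOf_self] at this

theorem offender {A : Subgroup G} (h : IsBestOffenderOn p V A) :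
    IsBestOffenderOn p (base V) (A.map (img V)) := by
  obtain ⟨h1, h2, h3⟩ := h
  refine ⟨fun B' hB' => ?_, ?_, ?_⟩
  · set B := A ⊓ B'.comap (img V) with hB
    have hBm : B.map (img V) = B' := by
      refine le_antisymm ?_ fun y hy => ?_
      · rintro _ ⟨x, hx, rfl⟩; exact hx.2
      · obtain ⟨x, hx, rfl⟩ := hB' hy
        exact ⟨x, ⟨hx, hy⟩, rfl⟩
    have hk : B ⊓ (img V).ker = A ⊓ (img V).ker := by
      refine le_antisymm (inf_le_inf_right _ inf_le_left) (le_inf (le_inf inf_le_left ?_) inf_le_right)
      exact inf_le_right.trans (MonoidHom.ker_le_comap _ _)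
    have hB1 := h1 B inf_le_left
    rw [Cores.card_eq_card_inf_ker_mul_card_map B (img V),
      Cores.card_eq_card_inf_ker_mul_card_map A (img V), hk, hBm, mul_assoc, mul_assoc] at hB1
    rw [← hBm, card_fixed, card_fixed, hBm]
    exact Nat.le_of_mul_le_mul_left hB1 Nat.card_pos
  · rw [← map_commutator, map_le_iff_le_comap]
    intro x hx
    exact (mem_centralizer_base V).mpr (h2 hx)
  · rintro _ ⟨a, ha, rfl⟩
    rw [← map_pow]
    exact (mem_centralizer_base V).mpr (h3 a ha)

/-- A normal `p`-subgroup modulo the kernel is trivial, so the image has trivial `p`-core. -/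
theorem pCore_image_eq_bot {J : Subgroup G} [J.Normal]
    (hO : pCore p (G ⧸ centralizer (V : Set G)) = ⊥) : pCore p ↥(J.map (img V)) = ⊥ := by
  set M := J.map (img V) with hM
  set P := (pCore p M).map M.subtype with hP
  haveI hMn : (M.subgroupOf (img V).range).Normal := by
    refine normal_subgroupOf_of_le_normalizer ?_
    rintro _ ⟨g, rfl⟩
    refine GlaubermanReplacement.mem_normalizer_of_conj_mem ?_
    rintro _ ⟨x, hx, rfl⟩
    exact ⟨g * x * g⁻¹, (inferInstance : J.Normal).conj_mem x hx g, by simp⟩
  have hPn : (img V).range ≤ normalizer (P : Set (Amb V)) := by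
    intro r hr
    have hrM : r ∈ normalizer (M : Set (Amb V)) := by
      obtain ⟨g, rfl⟩ := hr
      refine GlaubermanReplacement.mem_normalizer_of_conj_mem ?_
      rintro _ ⟨x, hx, rfl⟩
      exact ⟨g * x * g⁻¹, (inferInstance : J.Normal).conj_mem x hx g, by simp⟩
    have he : M.map (MulAut.conj r).toMonoidHom = M := mem_normalizer_iff_map_conj_eq.mp hrM
    refine GlaubermanReplacement.mem_normalizer_of_conj_mem ?_
    rintro _ ⟨x, hx, rfl⟩
    let e : M ≃* M := ((MulAut.conj r).subgroupMap M).trans (MulEquiv.subgroupCongr he)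
    exact ⟨e x, (Cores.map_pCore_equiv e).le ⟨x, hx, rfl⟩, rfl⟩
  set D := P.comap (img V) with hD
  haveI : D.Normal := ⟨fun x hx g => by
    show img V (g * x * g⁻¹) ∈ P
    rw [map_mul, map_mul, map_inv]
    exact (mem_normalizer_iff.mp (hPn ⟨g, rfl⟩) _).mp hx⟩
  set C := centralizer (V : Set G) with hC
  have hCk : C = (img V).ker := (ker_img V).symm
  have hDp : IsPGroup p (D.map (QuotientGroup.mk' C)) := by
    rintro ⟨_, x, hx, rfl⟩
    obtain ⟨k, hk⟩ := (Cores.isPGroup_pCore (p := p) (G := M)).map M.subtype ⟨img V x, hx⟩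
    refine ⟨k, Subtype.ext ?_⟩
    show (QuotientGroup.mk' C x) ^ p ^ k = 1
    rw [← map_pow, QuotientGroup.mk'_apply, QuotientGroup.eq_one_iff, hCk, MonoidHom.mem_ker, map_pow]
    exact congrArg Subtype.val hk
  haveI : (D.map (QuotientGroup.mk' C)).Normal :=
    Normal.map inferInstance _ (QuotientGroup.mk'_surjective C)
  have hDC : D ≤ C := by
    intro x hx
    have := (hO ▸ Cores.le_pCore hDp) ⟨x, hx, rfl⟩
    exact (QuotientGroup.eq_one_iff x).mp (mem_bot.mp this)
  rw [← (pCore p M).map_eq_bot_iff_of_injective M.subtype_injective, ← hP, eq_bot_iff]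
  intro y hy
  obtain ⟨x, hx, rfl⟩ : y ∈ M := map_subtype_le _ hy
  have hxC : x ∈ (img V).ker := hCk ▸ hDC hy
  exact mem_bot.mpr hxC

theorem setup (hV : IsElementaryAbelian p V) {J : Subgroup G} [J.Normal]
    (hsep : IsPSolvable p G) (hO : pCore p (G ⧸ centralizer (V : Set G)) = ⊥) :
    Setup p (base V) (J.map (img V))
      ((pPrimeCore p ↥(J.map (img V))).map (J.map (img V)).subtype) := by
  refine setup_of (base_elem V hV) ((map_le_range _ J).trans (range_le_normalizer V)) (faithful V J)
    (centralizer_pPrimeCore_le (pCore_image_eq_bot V hO) ?_)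
  exact PSolvable.of_surjective (PSolvable.subgroup hsep J) ((img V).subgroupMap_surjective J)

end Sec

/-- The join of the subgroups `Ω₁(Z(S))`. -/
def zetaJoin (p : ℕ) (G : Type*) [Group G] : Subgroup G :=
  ⨆ S : Sylow p G, omegaOne p ((S : Subgroup G) ⊓ centralizer ((S : Subgroup G) : Set G))

variable {G : Type*} [Group G] [Finite G] {p : ℕ} [hp : Fact p.Prime]

instance zetaJoin_normal : (zetaJoin p G).Normal := Omega.iSup_omega_center_normal

theorem zetaJoin_elem (hsep : IsPSolvable p G) (hO : pPrimeCore p G = ⊥) :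
    IsElementaryAbelian p (zetaJoin p G) := by
  have hc := PSolvable.centralizer_pCore_le hO (PSolvable.subgroup hsep _)
  set P := pCore p G with hP
  set Z0 := P ⊓ centralizer (P : Set G) with hZ0
  have hle : zetaJoin p G ≤ omegaOne p Z0 := by
    refine iSup_le fun S => Omega.omegaOne_mono ?_
    have h1 : (S : Subgroup G) ⊓ centralizer ((S : Subgroup G) : Set G) ≤ centralizer (P : Set G) :=
      inf_le_right.trans (centralizer_le (Cores.pCore_le_sylow S))
    exact le_inf (h1.trans hc) h1
  have hab : ∀ x ∈ Z0, ∀ y ∈ Z0, x * y = y * x := fun x hx y hy => hy.2 x hx.1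
  refine ThompsonSubgroup.IsElementaryAbelian.mono
    (ThompsonSubgroup.isElementaryAbelian_iff.mpr ⟨?_, ?_⟩) hle
  · exact fun x hx y hy => hab x (Omega.omegaOne_le _ hx) y (Omega.omegaOne_le _ hy)
  · intro x hx
    induction hx using closure_induction with
    | mem x hx => exact hx.2
    | one => exact one_pow p
    | mul x y hx' hy' ihx ihy =>
      rw [(show Commute x y from hab x ((closure_le Z0).mpr (fun _ h => h.1) hx') y
        ((closure_le Z0).mpr (fun _ h => h.1) hy')).mul_pow, ihx, ihy, one_mul]
    | inv x _ ih => rw [inv_pow, ih, inv_one]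

theorem pCore_quotient_zetaJoin :
    pCore p (G ⧸ centralizer (zetaJoin p G : Set G)) = ⊥ := by
  set C := centralizer (zetaJoin p G : Set G) with hC
  set D := (pCore p (G ⧸ C)).comap (QuotientGroup.mk' C) with hD
  haveI : D.Normal := Normal.comap inferInstance _
  have hCD : C ≤ D := (QuotientGroup.ker_mk' C).ge.trans (MonoidHom.ker_le_comap _ _)
  obtain ⟨k, hk⟩ := (Cores.isPGroup_pCore (p := p) (G := G ⧸ C)).exists_card_eq
  have hidx : C.relIndex D = p ^ k := by
    have h := relIndex_ker (QuotientGroup.mk' C) (K := D)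
    rw [QuotientGroup.ker_mk', hD, map_comap_eq_self_of_surjective (QuotientGroup.mk'_surjective C), hk] at h
    exact h
  have hDC : D ≤ C := by
    rw [hC, zetaJoin, le_centralizer_iff]
    refine iSup_le fun S => le_centralizer_iff.mp ?_
    refine Omega.le_centralizer_of_relIndex hCD hidx S ?_ ?_
    · exact centralizer_le (le_iSup (fun T : Sylow p G =>
        omegaOne p ((T : Subgroup G) ⊓ centralizer ((T : Subgroup G) : Set G))) S)
    · intro x hx v hv
      exact ((Omega.omegaOne_le _ hv).2 x hx.1).symm
  rw [eq_bot_iff]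
  intro y hy
  obtain ⟨x, rfl⟩ := QuotientGroup.mk'_surjective C y
  exact mem_bot.mpr ((QuotientGroup.eq_one_iff x).mpr (hDC hy))

/-- The Thompson subgroup is normal. -/
instance thompsonSubgroup_normal {G : Type*} [Group G] {p : ℕ} : (thompsonSubgroup p G).Normal :=
  normal_iff_map_conj_eq.mpr fun g => ThompsonSubgroup.map_thompsonSubgroup_equiv (MulAut.conj g)

/-- The image of the Thompson subgroup is generated by offenders. -/
theorem map_thompson_gen (V : Subgroup G) [V.Normal] (hV : IsElementaryAbelian p V) :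
    (thompsonSubgroup p G).map (Sec.img V) =
      ⨆ A : {A : Subgroup (Sec.Amb V) // A ≤ (thompsonSubgroup p G).map (Sec.img V) ∧
        IsBestOffenderOn p (Sec.base V) A}, (A : Subgroup (Sec.Amb V)) := by
  refine le_antisymm (map_le_iff_le_comap.mpr (sSup_le fun A hA => map_le_iff_le_comap.mp ?_))
    (iSup_le fun A => A.2.1)
  exact le_iSup_of_le ⟨A.map (Sec.img V), map_mono (ThompsonSubgroup.le_thompsonSubgroup hA),
    Sec.offender V (Cfsg.Agent.S0606.result V hV A hA)⟩ le_rfl

end Cfsg.Agent.PLocal.Offender
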