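import Mathlib
import Cfsg.Agent.S0597
import Cfsg.Agent.Lib.PLocal.Offender.Basic
import Cfsg.Agent.Lib.PLocal.Quadratic
import Cfsg.Agent.Lib.Cores.Subnormal

/-!
Subnormal subgroups with irreducible, incomparable commutator modules commute.
-/

set_option linter.all false
set_option autoImplicit false

namespace Cfsg.Agent.PLocal.Offender

open Subgroup Cfsg
open scoped commutatorElement

variable {G : Type*} [Group G]

/-- `X` is a subnormal subgroup of `L`. -/
def Sub (L X : Subgroup G) : Prop := X ≤ L ∧ (X.subgroupOf L).IsSubnormal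

/-- `[V, E]` has no proper nontrivial `E`-invariant subgroup. -/
def Irr (V E : Subgroup G) : Prop :=
  ∀ U : Subgroup G, U ≤ ⁅V, E⁆ → E ≤ normalizer (U : Set G) → U = ⊥ ∨ U = ⁅V, E⁆

theorem Sub.mono {L N X : Subgroup G} (h : Sub L X) (hXN : X ≤ N) (hNL : N ≤ L) : Sub N X :=
  ⟨hXN, h.2.comap (inclusion hNL)⟩

theorem Sub.of_normalizer {L X : Subgroup G} (hXL : X ≤ L) (h : L ≤ normalizer (X : Set G)) : Sub L X := by
  haveI := normal_subgroupOf_of_le_normalizer h
  exact ⟨hXL, Normal.isSubnormal inferInstance⟩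

theorem Sub.trans {L Y X : Subgroup G} (hY : Sub L Y) (hX : Sub Y X) : Sub L X := by
  refine ⟨hX.1.trans hY.1, IsSubnormal.trans (K := Y.subgroupOf L) (fun x hx => hX.1 hx) ?_ hY.2⟩
  have : (X.subgroupOf L).subgroupOf (Y.subgroupOf L) =
      (X.subgroupOf Y).comap (subgroupOfEquivOfLe hY.1).toMonoidHom := by
    ext x; rfl
  rw [this]
  exact hX.2.comap _

theorem Sub.conj {L X : Subgroup G} (h : Sub L X) {g : G} (hg : g ∈ L) :
    Sub L (X.map (MulAut.conj g).toMonoidHom) := by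
  refine ⟨?_, ?_⟩
  · rintro _ ⟨x, hx, rfl⟩; exact mul_mem (mul_mem hg (h.1 hx)) (inv_mem hg)
  · have : (X.map (MulAut.conj g).toMonoidHom).subgroupOf L =
        (X.subgroupOf L).map (MulAut.conj (⟨g, hg⟩ : L)).toMonoidHom := by
      ext y
      constructor
      · rintro ⟨x, hx, e⟩
        exact ⟨⟨x, h.1 hx⟩, hx, Subtype.ext e⟩
      · rintro ⟨x, hx, rfl⟩
        exact ⟨x, hx, rfl⟩
    rw [this]
    exact h.2.map (MulAut.conj (⟨g, hg⟩ : L)).surjective

theorem map_conj_one (X : Subgroup G) : X.map (MulAut.conj (1 : G)).toMonoidHom = X := by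
  ext x; simp

theorem mem_normalizer_map {H : Subgroup G} {g : G} :
    g ∈ normalizer (H : Set G) ↔ H.map (MulAut.conj g).toMonoidHom = H := mem_normalizer_iff_map_conj_eq

variable [Finite G] {p : ℕ} [hp : Fact p.Prime] {V : Subgroup G}

theorem Sub.eq_bot {L X : Subgroup G} (h : Sub L X) (hL : pCore p L = ⊥) (hX : IsPGroup p X) :
    X = ⊥ := by
  have := Cores.le_pCore_of_isSubnormal h.2 hX.comap_subtype
  rw [← map_subgroupOf_eq_of_le h.1]
  rw [hL] at this
  rw [le_bot_iff.mp this, Subgroup.map_bot]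

theorem pCore_eq_bot_of_normal {L N : Subgroup G} (hL : pCore p L = ⊥) (hNL : N ≤ L)
    (hn : L ≤ normalizer (N : Set G)) : pCore p N = ⊥ := by
  have h1 : Sub L ((pCore p N).map N.subtype) :=
    (Sub.of_normalizer hNL hn).trans (Sub.of_normalizer (map_subtype_le _) (Cores.le_normalizer_map_pCore N))
  have h2 := h1.eq_bot hL ((Cores.isPGroup_pCore).map _)
  exact (map_eq_bot_iff_of_injective _ N.subtype_injective).mp h2

/-- A subgroup acting quadratically and faithfully is a `p`-group. -/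
theorem isPGroup_of_quad (hV : IsElementaryAbelian p V) {X : Subgroup G}
    (hX : X ≤ normalizer (V : Set G)) (hf : X ⊓ centralizer (V : Set G) = ⊥)
    (hq : ⁅⁅V, X⁆, X⁆ = ⊥) : IsPGroup p X := by
  rintro ⟨x, hx⟩
  refine ⟨1, Subtype.ext ?_⟩
  show x ^ p ^ 1 = 1
  rw [pow_one]
  have h := Quadratic.pow_mem_centralizer hV (hX hx)
    (le_bot_iff.mp (hq ▸ commutator_mono (commutator_mono le_rfl (zpowers_le.mpr hx)) (zpowers_le.mpr hx)))
  exact mem_bot.mp (hf ▸ (⟨pow_mem hx p, h⟩ : x ^ p ∈ X ⊓ centralizer (V : Set G)))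

theorem commutator_eq_bot_of_chain (hV : IsElementaryAbelian p V) {L E₁ E₂ : Subgroup G}
    (hLV : L ≤ normalizer (V : Set G)) (hf : L ⊓ centralizer (V : Set G) = ⊥) (hO : pCore p L = ⊥)
    (h₁ : Sub L E₁) (h₂ : Sub L E₂) (hc : ⁅⁅V, E₁⁆, E₂⁆ = ⊥) : ⁅E₁, E₂⁆ = ⊥ := by
  have h := Cfsg.Agent.S0597.result V L hV hLV hf E₁ E₂ h₁.1 h₂.1 h₁.2 h₂.2 hc
  rw [hO, Subgroup.map_bot] at h
  exact le_bot_iff.mp h

/-- If one module is invariant under the other group, the modules meet trivially and the groups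
commute. -/
theorem of_invariant (hV : IsElementaryAbelian p V) {L E₁ E₂ : Subgroup G}
    (hLV : L ≤ normalizer (V : Set G)) (hf : L ⊓ centralizer (V : Set G) = ⊥) (hO : pCore p L = ⊥)
    (h₁ : Sub L E₁) (h₂ : Sub L E₂) (hi₂ : Irr V E₂) (h21 : ¬ ⁅V, E₂⁆ ≤ ⁅V, E₁⁆)
    (hinv : E₂ ≤ normalizer ((⁅V, E₁⁆ : Subgroup G) : Set G)) :
    ⁅E₁, E₂⁆ = ⊥ ∧ ⁅V, E₁⁆ ⊓ ⁅V, E₂⁆ = ⊥ := by
  have hb : ⁅V, E₁⁆ ⊓ ⁅V, E₂⁆ = ⊥ := by
    rcases hi₂ _ inf_le_right (le_normalizer_inf hinv (normalizer_commutator_ge_right V E₂)) with h | h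
    · exact h
    · exact absurd (inf_eq_right.mp h) h21
  refine ⟨commutator_eq_bot_of_chain hV hLV hf hO h₁ h₂ (le_bot_iff.mp ?_), hb⟩
  rw [← hb]
  refine le_inf (le_normalizer_iff_commutator_le_left.mp hinv) (commutator_mono ?_ le_rfl)
  exact le_normalizer_iff_commutator_le_left.mp (h₁.1.trans hLV)

theorem conj_commutator {g : G} (hg : g ∈ normalizer (V : Set G)) (E : Subgroup G) :
    ⁅V, E.map (MulAut.conj g).toMonoidHom⁆ = (⁅V, E⁆).map (MulAut.conj g).toMonoidHom := by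
  rw [map_commutator, mem_normalizer_map.mp hg]

theorem Irr.conj {g : G} (hg : g ∈ normalizer (V : Set G)) {E : Subgroup G} (h : Irr V E) :
    Irr V (E.map (MulAut.conj g).toMonoidHom) := by
  intro U hU hN
  set f := (MulAut.conj g).toMonoidHom with hfd
  have hinj : Function.Injective f := (MulAut.conj g).injective
  rw [conj_commutator hg] at hU ⊢
  have hUe : (U.comap f).map f = U := map_comap_eq_self_of_surjective (MulAut.conj g).surjective U
  rcases h (U.comap f) (by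
      intro x hx
      obtain ⟨y, hy, e⟩ := hU hx
      exact hinj e ▸ hy) (by
      intro x hx
      refine mem_normalizer_iff.mpr fun y => ?_
      have := mem_normalizer_iff.mp (hN ⟨x, hx, rfl⟩) (f y)
      simpa [mem_comap, map_mul, map_inv] using this) with h' | h'
  · left; rw [← hUe, h', Subgroup.map_bot]
  · right; rw [← hUe, h']

theorem module_le (hV : IsElementaryAbelian p V) {E : Subgroup G} (hE : E ≤ normalizer (V : Set G)) :
    ⁅V, E⁆ ≤ V := le_normalizer_iff_commutator_le_left.mp hE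

theorem map_conj_comp (g h : G) (X : Subgroup G) :
    (X.map (MulAut.conj h).toMonoidHom).map (MulAut.conj g).toMonoidHom =
      X.map (MulAut.conj (g * h)).toMonoidHom := by
  rw [map_map]
  congr 1
  ext x
  simp [mul_assoc]

/-- Subnormal subgroups with irreducible incomparable modules, in a group without normal
`p`-subgroup, commute and their modules meet trivially. -/
theorem commuting (hV : IsElementaryAbelian p V) : ∀ (L E₁ E₂ : Subgroup G),
    L ≤ normalizer (V : Set G) → L ⊓ centralizer (V : Set G) = ⊥ → pCore p L = ⊥ →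
    Sub L E₁ → Sub L E₂ → Irr V E₁ → Irr V E₂ → ¬ ⁅V, E₁⁆ ≤ ⁅V, E₂⁆ → ¬ ⁅V, E₂⁆ ≤ ⁅V, E₁⁆ →
    2 < Nat.card E₁ → 2 < Nat.card E₂ →
    ⁅E₁, E₂⁆ = ⊥ ∧ ⁅V, E₁⁆ ⊓ ⁅V, E₂⁆ = ⊥ := by
  intro L
  induction hn : Nat.card L using Nat.strong_induction_on generalizing L with
  | _ n IH =>
  intro E₁ E₂ hLV hf hO h₁ h₂ hi₁ hi₂ h12 h21 hc₁ hc₂
  subst hn
  set W₁ := ⁅V, E₁⁆ with hW₁
  set W₂ := ⁅V, E₂⁆ with hW₂
  by_cases hA : E₂ ≤ normalizer (W₁ : Set G)
  · exact of_invariant hV hLV hf hO h₁ h₂ hi₂ h21 hA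
  by_cases hB : E₁ ≤ normalizer (W₂ : Set G)
  · obtain ⟨a, b⟩ := of_invariant hV hLV hf hO h₂ h₁ hi₁ h12 hB
    exact ⟨by rw [commutator_comm]; exact a, by rw [inf_comm]; exact b⟩
  exfalso
  have hE₁V := h₁.1.trans hLV
  have hE₂V := h₂.1.trans hLV
  have hVc := (ThompsonSubgroup.isElementaryAbelian_iff.mp hV).1
  have hab : ∀ {X Y : Subgroup G}, X ≤ V → Y ≤ V → X ≤ normalizer (Y : Set G) := fun hX hY x hx =>
    centralizer_le_normalizer _ fun y hy => hVc y (hY hy) x (hX hx)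
  -- dimension count
  have key : ∀ (A B : Subgroup G), Sub L A → Sub L B → Irr V A → Irr V B → ¬ ⁅V, B⁆ ≤ ⁅V, A⁆ →
      ¬ ⁅V, A⁆ ≤ ⁅V, B⁆ →
      2 < Nat.card A → ¬ B ≤ normalizer ((⁅V, A⁆ : Subgroup G) : Set G) →
      Nat.card ↥⁅V, A⁆ * Nat.card ↥⁅V, A⁆ * Nat.card ↥(⁅V, A⁆ ⊓ ⁅V, B⁆) ≤
          Nat.card ↥⁅V, A⁆ * Nat.card ↥⁅V, B⁆ ∧
      ∃ g ∈ B, ⁅V, A⁆.map (MulAut.conj g).toMonoidHom ≠ ⁅V, A⁆ ∧
        ⁅V, A⁆.map (MulAut.conj g).toMonoidHom ⊓ ⁅V, A⁆ = ⊥ ∧
        (Nat.card ↥⁅V, A⁆ * Nat.card ↥⁅V, A⁆ * Nat.card ↥(⁅V, A⁆ ⊓ ⁅V, B⁆) =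
            Nat.card ↥⁅V, A⁆ * Nat.card ↥⁅V, B⁆ →
          ⁅V, A⁆.map (MulAut.conj g).toMonoidHom ⊔ ⁅V, A⁆ = ⁅V, A⁆ ⊔ ⁅V, B⁆ ∧
          ∀ h ∈ B, ⁅V, A⁆.map (MulAut.conj h).toMonoidHom ≠ ⁅V, A⁆ →
            ⁅V, A⁆.map (MulAut.conj h).toMonoidHom = ⁅V, A⁆.map (MulAut.conj g).toMonoidHom) := by
    intro A B hsA hsB hiA hiB hBA hAB hcA hnorm
    set U := ⁅V, A⁆ with hU
    set U' := ⁅V, B⁆ with hU'
    have hAV := hsA.1.trans hLV
    have hUV : U ≤ V := module_le hV hAV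
    have hU'V : U' ≤ V := module_le hV (hsB.1.trans hLV)
    -- a proper normal subgroup containing `A`
    have hne : A.subgroupOf L ≠ ⊤ := by
      intro h
      rw [subgroupOf_eq_top] at h
      exact hBA (commutator_mono le_rfl (hsB.1.trans h))
    obtain ⟨K, hKn, hAK, hKlt⟩ := hsA.2.exists_normal_and_le_and_lt_top_of_ne hne
    set N := K.map L.subtype with hN
    have hNL : N ≤ L := map_subtype_le _
    have hAN : A ≤ N := fun x hx => ⟨⟨x, hsA.1 hx⟩, hAK hx, rfl⟩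
    have hLN : L ≤ normalizer (N : Set G) := by
      intro l hl
      refine GlaubermanReplacement.mem_normalizer_of_conj_mem ?_
      rintro _ ⟨x, hx, rfl⟩
      exact ⟨⟨l, hl⟩ * x * ⟨l, hl⟩⁻¹, hKn.conj_mem x hx _, rfl⟩
    have hNlt : Nat.card N < Nat.card L := by
      refine lt_of_le_of_ne (Nat.le_of_dvd Nat.card_pos (card_dvd_of_le hNL)) fun h => hKlt.ne ?_
      refine Subgroup.map_injective L.subtype_injective ?_
      rw [← MonoidHom.range_eq_map, range_subtype]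
      exact eq_of_le_of_card_ge hNL h.ge
    have hconjN : ∀ g ∈ L, A.map (MulAut.conj g).toMonoidHom ≤ N := by
      rintro g hg _ ⟨x, hx, rfl⟩
      exact (mem_normalizer_iff.mp (hLN hg) x).mp (hAN hx)
    -- distinct conjugates of the module
    have hsep : ∀ g ∈ L, U.map (MulAut.conj g).toMonoidHom ≠ U →
        U.map (MulAut.conj g).toMonoidHom ⊓ U = ⊥ ∧
          U.map (MulAut.conj g).toMonoidHom ≤ centralizer (A : Set G) := by
      intro g hg hne'
      set A' := A.map (MulAut.conj g).toMonoidHom with hA'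
      have hgV := hLV hg
      have hW' : ⁅V, A'⁆ = U.map (MulAut.conj g).toMonoidHom := conj_commutator hgV A
      have hcard : Nat.card ↥(U.map (MulAut.conj g).toMonoidHom) = Nat.card U :=
        (Nat.card_congr (equivMapOfInjective U _ (MulAut.conj g).injective).toEquiv).symm
      have hcA' : 2 < Nat.card A' := by
        rw [hA', ← Nat.card_congr (equivMapOfInjective A _ (MulAut.conj g).injective).toEquiv]; exact hcA
      obtain ⟨hcm, hdis⟩ := IH _ hNlt N rfl A A' (hNL.trans hLV)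
        (le_bot_iff.mp (hf ▸ inf_le_inf_right _ hNL)) (pCore_eq_bot_of_normal hO hNL hLN)
        (hsA.mono hAN hNL) ((hsA.conj hg).mono (hconjN g hg) hNL) hiA (hiA.conj hgV)
        (fun h => hne' (eq_of_le_of_card_ge (hW' ▸ h) hcard.le).symm)
        (fun h => hne' (eq_of_le_of_card_ge (hW' ▸ h) hcard.ge)) hcA hcA'
      rw [hW'] at hdis
      refine ⟨by rw [inf_comm]; exact hdis, ?_⟩
      have hn' : A ≤ normalizer ((⁅V, A'⁆ : Subgroup G) : Set G) := fun a ha =>
        conj_mem_commutator (hAV ha) (centralizer_le_normalizer _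
          ((commutator_eq_bot_iff_le_centralizer.mp hcm) ha))
      rw [le_centralizer_iff, le_centralizer_iff_commutator]
      refine le_bot_iff.mp (hdis ▸ le_inf ?_ ?_)
      · exact commutator_mono ((Subgroup.map_mono hUV).trans (mem_normalizer_map.mp hgV).le) le_rfl
      · rw [← hW']; exact le_normalizer_iff_commutator_le_left.mp hn'
    obtain ⟨g, hgB, hg⟩ := SetLike.not_le_iff_exists.mp hnorm
    have hgne : U.map (MulAut.conj g).toMonoidHom ≠ U := fun h => hg (mem_normalizer_map.mpr h)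
    have hle : ∀ h ∈ B, U.map (MulAut.conj h).toMonoidHom ≤ U ⊔ U' := by
      rintro h hh _ ⟨u, hu, rfl⟩
      have he : MulAut.conj h u = ⁅u, h⁆⁻¹ * u := by
        simp only [MulAut.conj_apply, commutatorElement_def]; group
      show MulAut.conj h u ∈ U ⊔ U'
      rw [he]
      exact mul_mem (inv_mem (mem_sup_right (commutator_mem_commutator (hUV hu) hh))) (mem_sup_left hu)
    have hgU : U.map (MulAut.conj g).toMonoidHom ≤ V :=
      (Subgroup.map_mono hUV).trans (mem_normalizer_map.mp (hLV (hsB.1 hgB))).le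
    have hc1 := GlaubermanReplacement.card_sup_mul_card_inf (hab hgU hUV)
    rw [(hsep g (hsB.1 hgB) hgne).1, card_bot, mul_one,
      ← Nat.card_congr (equivMapOfInjective U _ (MulAut.conj g).injective).toEquiv] at hc1
    have hc2 := GlaubermanReplacement.card_sup_mul_card_inf (hab hUV hU'V)
    have hsub : U.map (MulAut.conj g).toMonoidHom ⊔ U ≤ U ⊔ U' := sup_le (hle g hgB) le_sup_left
    have hcard := Nat.le_of_dvd Nat.card_pos (card_dvd_of_le hsub)
    rw [hc1] at hcard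
    refine ⟨hc2 ▸ Nat.mul_le_mul_right _ hcard, g, hgB, hgne, (hsep g (hsB.1 hgB) hgne).1,
      fun heq => ?_⟩
    have hfull : U.map (MulAut.conj g).toMonoidHom ⊔ U = U ⊔ U' := by
      refine eq_of_le_of_card_ge hsub ?_
      rw [hc1]
      rw [← hc2] at heq
      exact (Nat.eq_of_mul_eq_mul_right Nat.card_pos heq).ge
    refine ⟨hfull, fun h hh hhne => ?_⟩
    obtain ⟨hd, hC⟩ := hsep h (hsB.1 hh) hhne
    refine eq_of_le_of_card_ge ?_ (le_of_eq ?_)
    · intro x hx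
      have hx' : x ∈ U.map (MulAut.conj g).toMonoidHom ⊔ U := hfull.symm ▸ hle h hh hx
      obtain ⟨u', hu', u, hu, rfl⟩ := (Coprime.mem_sup_of_le_normalizer (hab hUV hgU)).mp hx'
      have hC' := (hsep g (hsB.1 hgB) hgne).2 hu'
      have hu1 : u ∈ U ⊓ centralizer (A : Set G) := ⟨hu, (mul_mem_cancel_left hC').mp (hC hx)⟩
      rcases hiA (U ⊓ centralizer (A : Set G)) inf_le_left
          (le_normalizer_inf (normalizer_commutator_ge_right V A) (le_normalizer_centralizer le_normalizer)) with h0 | h0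
      · rw [mem_bot.mp (h0.le hu1), mul_one]; exact hu'
      · exfalso
        have hq : ⁅⁅V, A⁆, A⁆ = ⊥ := le_centralizer_iff_commutator.mp
          (le_centralizer_iff.mp (inf_eq_left.mp h0))
        have := hsA.eq_bot hO (isPGroup_of_quad hV hAV (le_bot_iff.mp (hf ▸ inf_le_inf_right _ hsA.1)) hq)
        rw [this, card_bot] at hcA
        omega
    · rw [← Nat.card_congr (equivMapOfInjective U _ (MulAut.conj g).injective).toEquiv,
        ← Nat.card_congr (equivMapOfInjective U _ (MulAut.conj h).injective).toEquiv]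
  obtain ⟨hle1, g, hgE, hgne, hgdis, hrest⟩ := key E₁ E₂ h₁ h₂ hi₁ hi₂ h21 h12 hc₁ hA
  obtain ⟨hle2, -⟩ := key E₂ E₁ h₂ h₁ hi₂ hi₁ h12 h21 hc₂ hB
  rw [inf_comm] at hle2
  have hpos : 0 < Nat.card ↥(W₁ ⊓ W₂) := Nat.card_pos
  have hp1 : 0 < Nat.card W₁ := Nat.card_pos
  have hp2 : 0 < Nat.card W₂ := Nat.card_pos
  have h1' : Nat.card W₁ * Nat.card ↥(W₁ ⊓ W₂) ≤ Nat.card W₂ :=
    Nat.le_of_mul_le_mul_left (by rw [← mul_assoc]; exact hle1) hp1
  have h2' : Nat.card W₂ * Nat.card ↥(W₁ ⊓ W₂) ≤ Nat.card W₁ :=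
    Nat.le_of_mul_le_mul_left (by rw [← mul_assoc]; exact hle2) hp2
  have hI : Nat.card ↥(W₁ ⊓ W₂) = 1 := by nlinarith
  rw [hI, mul_one] at h1' h2'
  have hI' : W₁ ⊓ W₂ = ⊥ := card_eq_one.mp hI
  obtain ⟨hfull, huniq⟩ := hrest (by rw [← hW₁, ← hW₂, hI, mul_one]; rw [le_antisymm h1' h2'])
  -- the stabilizer of `W₁` in `E₂`
  set K := E₂ ⊓ normalizer (W₁ : Set G) with hK
  set Wg := W₁.map (MulAut.conj g).toMonoidHom with hWg
  have hKg : ∀ k ∈ K, Wg.map (MulAut.conj k).toMonoidHom = Wg := by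
    rintro k ⟨hkE, hkN⟩
    rw [hWg, map_conj_comp]
    refine huniq (k * g) (mul_mem hkE hgE) fun h => hgne ?_
    rw [← hW₁] at h
    have := congrArg (Subgroup.map (MulAut.conj k⁻¹).toMonoidHom) h
    rw [map_conj_comp, inv_mul_cancel_left, mem_normalizer_map.mp (inv_mem hkN)] at this
    exact this
  have hcoset : ∀ h ∈ E₂, h ∈ K ∨ g⁻¹ * h ∈ K := by
    intro h hh
    by_cases hhN : h ∈ normalizer (W₁ : Set G)
    · exact Or.inl ⟨hh, hhN⟩
    · refine Or.inr (mem_inf.mpr ⟨mul_mem (inv_mem hgE) hh, mem_normalizer_map.mpr ?_⟩)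
      have := huniq h hh fun e => hhN (mem_normalizer_map.mpr e)
      rw [← hW₁] at this
      show W₁.map (MulAut.conj (g⁻¹ * h)).toMonoidHom = W₁
      rw [← map_conj_comp, this, map_conj_comp, inv_mul_cancel, map_conj_one]
  have hKne : K ≠ ⊥ := by
    intro h0
    classical
    have : Nat.card E₂ ≤ 2 := by
      refine le_trans (Nat.card_le_card_of_injective
        (fun e : E₂ => decide ((e : G) ∈ K)) ?_) (by simp)
      intro a b hab'
      simp only [decide_eq_decide] at hab'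
      rcases hcoset a a.2 with ha | ha <;> rcases hcoset b b.2 with hb | hb <;>
        rw [h0, mem_bot] at ha hb
      · exact Subtype.ext (ha.trans hb.symm)
      · exact Subtype.ext (ha.trans (mem_bot.mp (h0 ▸ hab'.mp (h0.symm ▸ mem_bot.mpr ha))).symm)
      · exact Subtype.ext ((mem_bot.mp (h0 ▸ hab'.mpr (h0.symm ▸ mem_bot.mpr hb))).trans hb.symm)
      · exact Subtype.ext (mul_left_cancel (ha.trans hb.symm))
    omega
  have hgW₂ : W₂.map (MulAut.conj g).toMonoidHom = W₂ :=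
    mem_normalizer_map.mp (normalizer_commutator_ge_right V E₂ hgE)
  have hW₁V : W₁ ≤ V := module_le hV hE₁V
  have hcent : ∀ k ∈ K, ∀ X : Subgroup G, X ≤ V → X.map (MulAut.conj k).toMonoidHom = X →
      X ⊓ W₂ = ⊥ → ∀ x ∈ X, k * x = x * k := by
    intro k hk X hXV hX hd x hx
    have h1 : ⁅x, k⁆ ∈ X := by
      rw [commutatorElement_def, mul_assoc, mul_assoc, ← mul_assoc k]
      exact mul_mem hx ((mem_normalizer_iff.mp (mem_normalizer_map.mpr hX) _).mp (inv_mem hx))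
    have h2 : ⁅x, k⁆ ∈ W₂ := commutator_mem_commutator (hXV hx) hk.1
    exact (commutatorElement_eq_one_iff_mul_comm.mp (mem_bot.mp (hd ▸ (⟨h1, h2⟩ : ⁅x, k⁆ ∈ X ⊓ W₂)))).symm
  have hgdisW : Wg ⊓ W₂ = ⊥ := by
    have := congrArg (Subgroup.map (MulAut.conj g).toMonoidHom) hI'
    rw [map_inf _ _ _ (MulAut.conj g).injective, Subgroup.map_bot, hgW₂] at this
    exact this
  have hWgV : Wg ≤ V := (Subgroup.map_mono hW₁V).trans (mem_normalizer_map.mp (hE₂V hgE)).le
  have hquad : ⁅⁅V, K⁆, K⁆ = ⊥ := by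
    rw [commutator_eq_bot_iff_le_centralizer]
    refine (commutator_mono le_rfl inf_le_left).trans (le_trans (le_sup_right : W₂ ≤ W₁ ⊔ W₂) ?_)
    rw [← hfull]
    refine sup_le (fun x hx k hk => ?_) (fun x hx k hk => ?_)
    · exact hcent k hk Wg hWgV (hKg k hk) hgdisW x hx
    · exact hcent k hk W₁ hW₁V (mem_normalizer_map.mp hk.2) hI' x hx
  have hKsub : Sub L K := by
    refine h₂.trans (Sub.of_normalizer inf_le_left fun e he => ?_)
    refine GlaubermanReplacement.mem_normalizer_of_conj_mem fun k hk => ?_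
    refine mem_inf.mpr ⟨mul_mem (mul_mem he hk.1) (inv_mem he), mem_normalizer_map.mpr ?_⟩
    show W₁.map (MulAut.conj (e * k * e⁻¹)).toMonoidHom = W₁
    rw [← map_conj_comp, ← map_conj_comp]
    by_cases heN : e⁻¹ ∈ normalizer (W₁ : Set G)
    · rw [mem_normalizer_map.mp heN, mem_normalizer_map.mp hk.2,
        mem_normalizer_map.mp (by simpa using inv_mem heN : e ∈ normalizer (W₁ : Set G))]
    · have he' := huniq e⁻¹ (inv_mem he) fun h => heN (mem_normalizer_map.mpr h)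
      rw [he', hKg k hk, ← he', map_conj_comp, mul_inv_cancel, map_conj_one]
  exact hKne (hKsub.eq_bot hO (isPGroup_of_quad hV (inf_le_left.trans hE₂V)
    (le_bot_iff.mp (hf ▸ inf_le_inf_right _ (inf_le_left.trans h₂.1))) hquad))

end Cfsg.Agent.PLocal.Offender
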