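import Mathlib
import Cfsg.Agent.Lib.Forms.DicksonField

/-!
Coordinates on an elementary abelian subgroup of order `p ^ 2` and the matrices of the elements
normalizing it.
-/

set_option linter.all false
set_option autoImplicit false

namespace Cfsg.Agent.PLocal.Offender.Coord

open Subgroup Matrix
open scoped MatrixGroups

variable {G : Type*} [Group G] {p : ℕ} [hp : Fact p.Prime]

/-- A basis of the plane `W`. -/
structure Basis (p : ℕ) (W : Subgroup G) (e₁ e₂ : G) : Prop where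
  mem₁ : e₁ ∈ W
  mem₂ : e₂ ∈ W
  gen : W ≤ closure ({e₁, e₂} : Set G)
  comm : e₁ * e₂ = e₂ * e₁
  pow₁ : e₁ ^ p = 1
  pow₂ : e₂ ^ p = 1
  card : Nat.card W = p ^ 2

/-- The coordinate map. -/
def ι (e₁ e₂ : G) (x : Fin 2 → ZMod p) : G := e₁ ^ (x 0).val * e₂ ^ (x 1).val

/-- `d` acts on the plane by the matrix `M`. -/
def Acts (e₁ e₂ : G) (d : G) (M : Matrix (Fin 2) (Fin 2) (ZMod p)) : Prop :=
  ∀ x : Fin 2 → ZMod p, d * ι e₁ e₂ x * d⁻¹ = ι e₁ e₂ (M *ᵥ x)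

theorem pow_val_add {e : G} (he : e ^ p = 1) (a b : ZMod p) : e ^ (a + b).val = e ^ a.val * e ^ b.val := by
  rw [ZMod.val_add, ← pow_add, ← pow_eq_pow_mod _ he]

theorem pow_val_nat {e : G} (he : e ^ p = 1) (n : ℕ) : e ^ (n : ZMod p).val = e ^ n := by
  rw [ZMod.val_natCast, ← pow_eq_pow_mod _ he]

theorem ι_add {e₁ e₂ : G} (hc : e₁ * e₂ = e₂ * e₁) (h₁ : e₁ ^ p = 1) (h₂ : e₂ ^ p = 1)
    (x y : Fin 2 → ZMod p) : ι e₁ e₂ (x + y) = ι e₁ e₂ x * ι e₁ e₂ y := by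
  simp only [ι, Pi.add_apply, pow_val_add h₁, pow_val_add h₂]
  have : e₁ ^ (y 0).val * e₂ ^ (x 1).val = e₂ ^ (x 1).val * e₁ ^ (y 0).val :=
    ((show Commute e₁ e₂ from hc).pow_pow _ _).eq
  calc e₁ ^ (x 0).val * e₁ ^ (y 0).val * (e₂ ^ (x 1).val * e₂ ^ (y 1).val)
      = e₁ ^ (x 0).val * (e₁ ^ (y 0).val * e₂ ^ (x 1).val) * e₂ ^ (y 1).val := by group
    _ = _ := by rw [this]; group

theorem ι_zero (e₁ e₂ : G) : ι (p := p) e₁ e₂ 0 = 1 := by simp [ι]

variable {W : Subgroup G} {e₁ e₂ : G}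

theorem ι_mem (h : Basis p W e₁ e₂) (x : Fin 2 → ZMod p) : ι e₁ e₂ x ∈ W :=
  mul_mem (pow_mem h.mem₁ _) (pow_mem h.mem₂ _)

/-- The coordinate map as a homomorphism. -/
def ιHom (h : Basis p W e₁ e₂) : Multiplicative (Fin 2 → ZMod p) →* G where
  toFun x := ι e₁ e₂ x.toAdd
  map_one' := ι_zero e₁ e₂
  map_mul' x y := ι_add h.comm h.pow₁ h.pow₂ _ _

theorem range_ιHom (h : Basis p W e₁ e₂) : (ιHom h).range = W := by
  refine le_antisymm (by rintro _ ⟨x, rfl⟩; exact ι_mem h _) (h.gen.trans ((closure_le _).mpr ?_))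
  have : Fact (1 < p) := ⟨hp.out.one_lt⟩
  rintro g (rfl | rfl)
  · exact ⟨Multiplicative.ofAdd ![1, 0], by show g ^ _ * _ = g; simp [ZMod.val_one]⟩
  · exact ⟨Multiplicative.ofAdd ![0, 1], by show _ * g ^ _ = g; simp [ZMod.val_one]⟩

theorem ι_injective (h : Basis p W e₁ e₂) : Function.Injective (ι (p := p) e₁ e₂) := by
  have h1 : Function.Injective (ιHom h) := by
    rw [← MonoidHom.ker_eq_bot_iff, ← card_eq_one]
    have hh := (ιHom h).ker.card_mul_index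
    rw [index_ker, range_ιHom, h.card, Nat.card_congr Multiplicative.toAdd, Nat.card_fun,
      Nat.card_eq_fintype_card (α := Fin 2), Fintype.card_fin, Nat.card_zmod] at hh
    exact (Nat.mul_eq_right (pow_ne_zero 2 hp.out.ne_zero)).mp hh
  intro x y hxy
  exact Multiplicative.ofAdd.injective (h1 (show ιHom h (Multiplicative.ofAdd x) = ιHom h (Multiplicative.ofAdd y) from hxy))

theorem exists_ι (h : Basis p W e₁ e₂) {w : G} (hw : w ∈ W) : ∃ x, ι (p := p) e₁ e₂ x = w := by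
  rw [← range_ιHom h] at hw
  obtain ⟨x, hx⟩ := hw
  exact ⟨x.toAdd, hx⟩

theorem Acts.unique (h : Basis p W e₁ e₂) {d : G} {M N : Matrix (Fin 2) (Fin 2) (ZMod p)}
    (hM : Acts e₁ e₂ d M) (hN : Acts e₁ e₂ d N) : M = N :=
  Matrix.ext_of_mulVec_single fun i => ι_injective h ((hM _).symm.trans (hN _))

theorem Acts.mul {d d' : G} {M N : Matrix (Fin 2) (Fin 2) (ZMod p)}
    (hM : Acts e₁ e₂ d M) (hN : Acts e₁ e₂ d' N) : Acts e₁ e₂ (d * d') (M * N) := fun x => by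
  rw [← Matrix.mulVec_mulVec, ← hM, ← hN]; group

theorem acts_one : Acts (p := p) e₁ e₂ (1 : G) 1 := fun x => by simp

theorem exists_acts (h : Basis p W e₁ e₂) {d : G} (hd : d ∈ normalizer (W : Set G)) :
    ∃ M, Acts (p := p) e₁ e₂ d M := by
  choose f hf using fun x : Fin 2 → ZMod p =>
    exists_ι h ((mem_normalizer_iff.mp hd _).mp (ι_mem h x))
  let φ : (Fin 2 → ZMod p) →+ (Fin 2 → ZMod p) := AddMonoidHom.mk' f fun x y => ι_injective h (by
    rw [hf, ι_add h.comm h.pow₁ h.pow₂, ι_add h.comm h.pow₁ h.pow₂, hf, hf]; group)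
  refine ⟨LinearMap.toMatrix' (φ.toZModLinearMap p), fun x => ?_⟩
  rw [← hf x]
  congr 1
  rw [LinearMap.toMatrix'_mulVec]
  rfl

theorem acts_inv (h : Basis p W e₁ e₂) {d : G} {M : SL(2, ZMod p)}
    (hM : Acts e₁ e₂ d (M : Matrix (Fin 2) (Fin 2) (ZMod p))) :
    Acts e₁ e₂ d⁻¹ ((M⁻¹ : SL(2, ZMod p)) : Matrix (Fin 2) (Fin 2) (ZMod p)) := fun x => by
  have h1 := hM (((M⁻¹ : SL(2, ZMod p)) : Matrix (Fin 2) (Fin 2) (ZMod p)) *ᵥ x)
  rw [Matrix.mulVec_mulVec, ← Matrix.SpecialLinearGroup.coe_mul, mul_inv_cancel,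
    Matrix.SpecialLinearGroup.coe_one, Matrix.one_mulVec] at h1
  rw [← h1]; group

/-- The elements acting by matrices of determinant one. -/
def special (h : Basis p W e₁ e₂) : Subgroup G where
  carrier := {d | ∃ M : SL(2, ZMod p), Acts e₁ e₂ d (M : Matrix (Fin 2) (Fin 2) (ZMod p))}
  one_mem' := ⟨1, by rw [Matrix.SpecialLinearGroup.coe_one]; exact acts_one⟩
  mul_mem' := by
    rintro d d' ⟨M, hM⟩ ⟨N, hN⟩
    exact ⟨M * N, by rw [Matrix.SpecialLinearGroup.coe_mul]; exact hM.mul hN⟩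
  inv_mem' := by
    rintro d ⟨M, hM⟩
    exact ⟨M⁻¹, acts_inv h hM⟩

theorem conj_special (h : Basis p W e₁ e₂) {g d : G} (hg : g ∈ normalizer (W : Set G))
    (hd : d ∈ special h) : g * d * g⁻¹ ∈ special h := by
  obtain ⟨M, hM⟩ := hd
  obtain ⟨P, hP⟩ := exists_acts h hg
  obtain ⟨Q, hQ⟩ := exists_acts h (inv_mem hg)
  have hPQ : P * Q = 1 := (hP.mul hQ).unique h (by rw [mul_inv_cancel]; exact acts_one)
  refine ⟨⟨P * M.1 * Q, ?_⟩, (hP.mul hM).mul hQ⟩
  rw [det_mul, det_mul, M.2, mul_one, ← det_mul, hPQ, det_one]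

theorem uniSL_natCast (n : ℕ) :
    (Classical.GL2.uniSL (1 : ZMod p)) ^ n = Classical.GL2.uniSL ((n : ℕ) : ZMod p) := by
  induction n with
  | zero =>
    refine Classical.GL2.sl_ext ?_
    simp [Classical.GL2.coe_uniSL, one_fin_two]
  | succ n ih => rw [pow_succ, ih, Classical.GL2.uniSL_mul, Nat.cast_succ]

theorem lowSL_natCast (t : ZMod p) (n : ℕ) :
    (Classical.GL2.lowSL t) ^ n = Classical.GL2.lowSL ((n : ℕ) * t) := by
  induction n with
  | zero =>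
    refine Classical.GL2.sl_ext ?_
    simp [Classical.GL2.coe_lowSL, one_fin_two]
  | succ n ih =>
    refine Classical.GL2.sl_ext ?_
    rw [pow_succ, ih, Matrix.SpecialLinearGroup.coe_mul, Classical.GL2.coe_lowSL, Classical.GL2.coe_lowSL,
      Classical.GL2.coe_lowSL, Nat.cast_succ]
    simp [add_mul, add_comm]

theorem eq_top_of_generators {M : Subgroup SL(2, ZMod p)} {t : ZMod p} (ht : t ≠ 0)
    (h1 : Classical.GL2.uniSL 1 ∈ M) (h2 : Classical.GL2.lowSL t ∈ M) : M = ⊤ := by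
  refine Forms.DicksonField.eq_top_of_uni_low M (fun c => ?_) (fun c => ?_)
  · have := pow_mem h1 c.val
    rwa [uniSL_natCast, ZMod.natCast_rightInverse c] at this
  · have := pow_mem h2 (c * t⁻¹).val
    rwa [lowSL_natCast, ZMod.natCast_rightInverse, inv_mul_cancel_right₀ ht] at this

/-- A group of determinant one acting faithfully on the plane and containing two opposite
transvections is `SL(2, p)`. -/
theorem iso_of_actions (h : Basis p W e₁ e₂) {L : Subgroup G} (hL : L ≤ special h)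
    (hf : L ⊓ centralizer (W : Set G) = ⊥) {a b : G} (ha : a ∈ L) (hb : b ∈ L) {t : ZMod p}
    (ht : t ≠ 0) (hA : Acts e₁ e₂ a ((Classical.GL2.uniSL 1 : SL(2, ZMod p)) : Matrix (Fin 2) (Fin 2) (ZMod p)))
    (hB : Acts e₁ e₂ b ((Classical.GL2.lowSL t : SL(2, ZMod p)) : Matrix (Fin 2) (Fin 2) (ZMod p))) :
    ∃ e : L ≃* SL(2, ZMod p), ∀ d : L, Acts e₁ e₂ (d : G) (e d : Matrix (Fin 2) (Fin 2) (ZMod p)) := by
  choose f hf' using fun d : L => hL d.2
  let φ : L →* SL(2, ZMod p) := MonoidHom.mk' f fun x y => Subtype.ext ((hf' (x * y)).unique h (by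
    rw [Matrix.SpecialLinearGroup.coe_mul]; exact (hf' x).mul (hf' y)))
  have hval : ∀ (d : L) (M : SL(2, ZMod p)), Acts e₁ e₂ (d : G) (M : Matrix (Fin 2) (Fin 2) (ZMod p)) →
      φ d = M := fun d M hM => Subtype.ext ((hf' d).unique h hM)
  have hinj : Function.Injective φ := by
    rw [injective_iff_map_eq_one]
    intro d hd
    refine Subtype.ext (mem_bot.mp (hf.le ⟨d.2, fun w hw => ?_⟩))
    obtain ⟨x, rfl⟩ := exists_ι h hw
    have h1 := hf' d x
    rw [show f d = 1 from hd, Matrix.SpecialLinearGroup.coe_one, Matrix.one_mulVec] at h1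
    exact (mul_inv_eq_iff_eq_mul.mp h1).symm
  have hsurj : Function.Surjective φ := MonoidHom.range_eq_top.mp
    (eq_top_of_generators ht ⟨⟨a, ha⟩, hval _ _ hA⟩ ⟨⟨b, hb⟩, hval _ _ hB⟩)
  exact ⟨MulEquiv.ofBijective φ ⟨hinj, hsurj⟩, hf'⟩

end Cfsg.Agent.PLocal.Offender.Coord
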