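import Mathlib
import Cfsg.Agent.Lib.PLocal.Offender.Basic
import Cfsg.Agent.Lib.PLocal.Offender.Coord

/-!
Two offenders of order `p` that do not generate a `p`-group generate `SL(2, p)` on a plane.
-/

set_option linter.all false
set_option autoImplicit false

namespace Cfsg.Agent.PLocal.Offender

open Subgroup Cfsg
open scoped commutatorElement MatrixGroups

variable {G : Type*} [Group G]

theorem commutator_sup_le {V W A B : Subgroup G} (hA : A ≤ normalizer (W : Set G))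
    (hB : B ≤ normalizer (W : Set G)) (h1 : ⁅V, A⁆ ≤ W) (h2 : ⁅V, B⁆ ≤ W) : ⁅V, A ⊔ B⁆ ≤ W := by
  rw [commutator_le]
  intro v hv e he
  rw [sup_eq_closure] at he
  suffices H : e ∈ normalizer (W : Set G) ∧ ⁅v, e⁆ ∈ W from H.2
  induction he using closure_induction generalizing v with
  | mem x hx =>
    rcases hx with hx | hx
    · exact ⟨hA hx, h1 (commutator_mem_commutator hv hx)⟩
    · exact ⟨hB hx, h2 (commutator_mem_commutator hv hx)⟩
  | one => exact ⟨one_mem _, by simp⟩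
  | mul x y _ _ ihx ihy =>
    refine ⟨mul_mem (ihx v hv).1 (ihy v hv).1, ?_⟩
    rw [show ⁅v, x * y⁆ = ⁅v, x⁆ * (x * ⁅v, y⁆ * x⁻¹) by simp only [commutatorElement_def]; group]
    exact mul_mem (ihx v hv).2 ((mem_normalizer_iff.mp (ihx v hv).1 _).mp (ihy v hv).2)
  | inv x _ ih =>
    refine ⟨inv_mem (ih v hv).1, ?_⟩
    rw [show ⁅v, x⁻¹⁆ = x⁻¹ * ⁅v, x⁆⁻¹ * x⁻¹⁻¹ by simp only [commutatorElement_def]; group]
    exact (mem_normalizer_iff.mp (inv_mem (ih v hv).1) _).mp (inv_mem (ih v hv).2)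

theorem fixes_iff {V X : Subgroup G} {v : G} :
    v ∈ V ⊓ centralizer (X : Set G) ↔ v ∈ V ∧ ∀ x ∈ X, x * v = v * x :=
  ⟨fun h => ⟨h.1, h.2⟩, fun h => ⟨h.1, h.2⟩⟩

variable [Finite G] {p : ℕ} [hp : Fact p.Prime] {V H F : Subgroup G}

/-- A faithful group stabilizing a series of `V` is a `p`-group. -/
theorem isPGroup_of_series (hV : IsElementaryAbelian p V) {X W Z : Subgroup G}
    (hX : X ≤ normalizer (V : Set G)) (hf : X ⊓ centralizer (V : Set G) = ⊥)
    (hXW : X ≤ normalizer (W : Set G)) (hWV : W ≤ V) (h1 : ⁅V, X⁆ ≤ W) (h2 : ⁅W, X⁆ ≤ Z)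
    (h3 : ⁅Z, X⁆ = ⊥) : IsPGroup p X := by
  rintro ⟨x, hx⟩
  obtain ⟨j, m, hm, hjm⟩ := Nat.exists_eq_pow_mul_and_not_dvd (orderOf_pos x).ne' p hp.out.ne_one
  refine ⟨j, Subtype.ext ?_⟩
  show x ^ p ^ j = 1
  set Y := zpowers (x ^ p ^ j) with hY
  have hYX : Y ≤ X := zpowers_le.mpr (pow_mem hx _)
  have hY1 : (x ^ p ^ j) ^ m = 1 := by rw [← pow_mul, ← hjm, pow_orderOf_eq_one]
  have hcop : (Nat.card Y).Coprime (Nat.card V) := by
    obtain ⟨i, hi⟩ := (ThompsonSubgroup.IsElementaryAbelian.isPGroup hV).exists_card_eq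
    rw [hi, Nat.card_zpowers]
    exact (((Nat.Prime.coprime_iff_not_dvd hp.out).mpr hm).symm.coprime_dvd_left
      (orderOf_dvd_of_pow_eq_one hY1)).pow_right i
  haveI := Coprime.isSolvable_of_isMulCommutative Y
  have hYW : Y ≤ centralizer (W : Set G) :=
    Coprime.le_centralizer_of_commutator_commutator_eq_bot (hYX.trans hXW)
      (hcop.coprime_dvd_right (card_dvd_of_le hWV)) (Or.inl inferInstance)
      (le_bot_iff.mp (h3 ▸ commutator_mono ((commutator_mono le_rfl hYX).trans h2) hYX))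
  have hYV := Coprime.le_centralizer_of_series (hYX.trans hX) hcop (Or.inl inferInstance) hYW
    ((commutator_mono le_rfl hYX).trans h1)
  exact mem_bot.mp (hf ▸ (⟨pow_mem hx _, hYV (mem_zpowers _)⟩ : x ^ p ^ j ∈ X ⊓ centralizer (V : Set G)))

/-- Facts on an offender of order `p`. -/
structure Point (p : ℕ) (V H A : Subgroup G) : Prop where
  le : A ≤ H
  card : Nat.card A = p
  full : Full V A

theorem Point.elem {A : Subgroup G} (h : Point p V H A) : IsElementaryAbelian p A := by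
  haveI := isCyclic_of_prime_card (p := p) h.card
  exact ⟨inferInstance, fun a ha => orderOf_dvd_iff_pow_eq_one.mp (h.card ▸ A.orderOf_dvd_natCard ha)⟩

theorem Point.gen {A : Subgroup G} (h : Point p V H A) : ∃ a ∈ A, a ≠ 1 ∧ zpowers a = A := by
  have hne : A ≠ ⊥ := fun e => hp.out.ne_one (by rw [← h.card, e, card_bot])
  obtain ⟨a, ha, ha1⟩ := (bot_or_exists_ne_one A).resolve_left hne
  refine ⟨a, ha, ha1, eq_of_le_of_card_ge (zpowers_le.mpr ha) ?_⟩
  rw [h.card, card_eq_p_of_ne_one (h.elem.2 a ha) ha1]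

theorem Point.module_le (s : Setup p V H F) {A : Subgroup G} (h : Point p V H A) :
    ⁅V, A⁆ ≤ V ⊓ centralizer (A : Set G) := by
  have hAV : A ≤ normalizer (V : Set G) := h.le.trans s.norm
  refine le_inf (le_normalizer_iff_commutator_le_left.mp hAV) ?_
  obtain ⟨hc, -⟩ := point_facts s h.le h.card h.full
  rw [le_centralizer_iff, le_centralizer_iff_commutator]
  by_contra hne
  have hVA : IsPGroup p ↥(⁅V, A⁆ ⊔ A) :=
    ((ThompsonSubgroup.IsElementaryAbelian.isPGroup s.elem).to_le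
      (le_normalizer_iff_commutator_le_left.mp hAV)).to_sup_of_normal_left'
      (ThompsonSubgroup.IsElementaryAbelian.isPGroup h.elem) (normalizer_commutator_ge_right V A)
  have hn := normalizer_commutator_ge_right V A
  have hle : ⁅⁅V, A⁆, A⁆ ≤ ⁅V, A⁆ := le_normalizer_iff_commutator_le_left.mp hn
  have heq : ⁅⁅V, A⁆, A⁆ = ⁅V, A⁆ := by
    rcases (Nat.dvd_prime hp.out).mp (hc ▸ card_dvd_of_le hle) with e | e
    · exact absurd (card_eq_one.mp e) hne
    · exact eq_of_le_of_card_ge hle (by rw [hc, e])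
  have h0 := Replacement.eq_bot_of_le_commutator hVA (le_sup_left : ⁅V, A⁆ ≤ _)
    (heq.ge.trans (commutator_mono le_rfl le_sup_right))
  rw [h0, card_bot] at hc
  exact hp.out.ne_one hc.symm

theorem not_isPGroup_sup (s : Setup p V H F) {A B : Subgroup G} (hA : Point p V H A)
    (hB : Point p V H B) (hBA : B ≤ F ⊔ A) (hne : A ≠ B) : ¬ IsPGroup p ↥(A ⊔ B) := by
  intro hP
  have hle : A ⊔ B ≤ F ⊔ A := sup_le le_sup_right hBA
  have hcard := GlaubermanReplacement.card_sup_mul_card_inf (hA.le.trans s.core_norm)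
  obtain ⟨k, hk⟩ := hP.exists_card_eq
  have hd : Nat.card ↥(A ⊔ B) ∣ p * Nat.card F := by
    rw [← hA.card, ← hcard, sup_comm A F]
    exact dvd_mul_of_dvd_left (card_dvd_of_le hle) _
  have hd' : Nat.card ↥(A ⊔ B) ∣ p :=
    (show (Nat.card ↥(A ⊔ B)).Coprime (Nat.card F) by
      rw [hk]; exact (s.core_cop.pow_right k).symm).dvd_of_dvd_mul_right hd
  have h1 : A = A ⊔ B := eq_of_le_of_card_ge le_sup_left (hA.card ▸ Nat.le_of_dvd hp.out.pos hd')
  exact hne (eq_of_le_of_card_ge (le_sup_right.trans h1.ge) (by rw [hA.card, hB.card])).symm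

/-- The plane of two offenders of order `p` that do not generate a `p`-group. -/
structure PlaneData (p : ℕ) (V A B : Subgroup G) : Prop where
  card : Nat.card ↥⁅V, A ⊔ B⁆ = p ^ 2
  eq_sup : ⁅V, A ⊔ B⁆ = ⁅V, A⁆ ⊔ ⁅V, B⁆
  faithful : (A ⊔ B) ⊓ centralizer ((⁅V, A ⊔ B⁆ : Subgroup G) : Set G) = ⊥
  disj : ⁅V, A ⊔ B⁆ ⊓ centralizer ((A ⊔ B : Subgroup G) : Set G) = ⊥
  split : ⁅V, A ⊔ B⁆ ⊔ (V ⊓ centralizer ((A ⊔ B : Subgroup G) : Set G)) = V
  fixed_left : ⁅V, A ⊔ B⁆ ⊓ centralizer (A : Set G) = ⁅V, A⁆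

theorem not_module_le_fixed (s : Setup p V H F) {A B : Subgroup G} (hA : Point p V H A)
    (hB : Point p V H B) (hnp : ¬ IsPGroup p ↥(A ⊔ B)) :
    ⁅V, A⁆ ⊓ centralizer (B : Set G) = ⊥ := by
  obtain ⟨hcA, -⟩ := point_facts s hA.le hA.card hA.full
  rcases (Nat.dvd_prime hp.out).mp (hcA ▸ card_dvd_of_le (inf_le_left : ⁅V, A⁆ ⊓ centralizer (B : Set G) ≤ _)) with e | e
  · exact card_eq_one.mp e
  exfalso
  have hfix : ⁅V, A⁆ ≤ centralizer (B : Set G) :=
    inf_eq_left.mp (eq_of_le_of_card_ge inf_le_left (by rw [hcA, e]))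
  have hAc : ⁅V, A⁆ ≤ centralizer (A : Set G) := (hA.module_le s).trans inf_le_right
  have hBc : ⁅V, B⁆ ≤ centralizer (B : Set G) := (hB.module_le s).trans inf_le_right
  have hVA : ⁅V, A⁆ ≤ V := (hA.module_le s).trans inf_le_left
  have hVB : ⁅V, B⁆ ≤ V := (hB.module_le s).trans inf_le_left
  set W := ⁅V, A⁆ ⊔ ⁅V, B⁆ with hW
  have hXV : A ⊔ B ≤ normalizer (V : Set G) := (sup_le hA.le hB.le).trans s.norm
  have hWc : W ≤ centralizer (B : Set G) := sup_le hfix hBc
  have hAW : A ≤ normalizer (W : Set G) := fun x hx => by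
    refine GlaubermanReplacement.mem_normalizer_of_conj_mem fun w hw => ?_
    have hwV : w ∈ V := sup_le hVA hVB hw
    have : x * w * x⁻¹ = ⁅w, x⁆⁻¹ * w := by simp only [commutatorElement_def]; group
    rw [this]
    exact mul_mem (inv_mem (mem_sup_left (commutator_mem_commutator hwV hx))) hw
  have hBW : B ≤ normalizer (W : Set G) := (le_centralizer_iff.mp hWc).trans (centralizer_le_normalizer _)
  refine hnp (isPGroup_of_series s.elem hXV (le_bot_iff.mp (s.faithful ▸ inf_le_inf_right _ (sup_le hA.le hB.le)))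
    (sup_le hAW hBW) (sup_le hVA hVB) (commutator_sup_le hAW hBW le_sup_left le_sup_right) (Z := ⁅V, A⁆) ?_ ?_)
  · refine commutator_sup_le (normalizer_commutator_ge_right V A)
      ((le_centralizer_iff.mp hfix).trans (centralizer_le_normalizer _)) ?_ ?_
    · exact commutator_mono (sup_le hVA hVB) le_rfl
    · rw [le_centralizer_iff_commutator.mp (le_centralizer_iff.mp hWc)]; exact bot_le
  · exact le_centralizer_iff_commutator.mp (le_centralizer_iff.mp
      (fun z hz x hx => by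
        have hle : A ⊔ B ≤ centralizer ({z} : Set G) := sup_le
          (fun a ha => mem_centralizer_singleton_iff.mpr (hAc hz a ha))
          (fun b hb => mem_centralizer_singleton_iff.mpr (hfix hz b hb))
        exact mem_centralizer_singleton_iff.mp (hle hx) :
        ⁅V, A⁆ ≤ centralizer ((A ⊔ B : Subgroup G) : Set G)))

theorem plane (s : Setup p V H F) {A B : Subgroup G} (hA : Point p V H A) (hB : Point p V H B)
    (hnp : ¬ IsPGroup p ↥(A ⊔ B)) : PlaneData p V A B := by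
  set ZA := ⁅V, A⁆ with hZA
  set ZB := ⁅V, B⁆ with hZB
  obtain ⟨hcA, hiA⟩ := point_facts s hA.le hA.card hA.full
  obtain ⟨hcB, hiB⟩ := point_facts s hB.le hB.card hB.full
  have h1 := not_module_le_fixed s hA hB hnp
  have h2 := not_module_le_fixed s hB hA (by rwa [sup_comm])
  have hVc := (ThompsonSubgroup.isElementaryAbelian_iff.mp s.elem).1
  have hab : ∀ {X Y : Subgroup G}, X ≤ V → Y ≤ V → X ≤ normalizer (Y : Set G) := fun hX hY x hx =>
    centralizer_le_normalizer _ fun y hy => hVc y (hY hy) x (hX hx)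
  have hAV := hA.le.trans s.norm
  have hBV := hB.le.trans s.norm
  have hZAV : ZA ≤ V := (hA.module_le s).trans inf_le_left
  have hZBV : ZB ≤ V := (hB.module_le s).trans inf_le_left
  have hZAc : ZA ≤ centralizer (A : Set G) := (hA.module_le s).trans inf_le_right
  have hZBc : ZB ≤ centralizer (B : Set G) := (hB.module_le s).trans inf_le_right
  have hdis : ZA ⊓ ZB = ⊥ := le_bot_iff.mp (h1 ▸ inf_le_inf_left _ hZBc)
  set W := ZA ⊔ ZB with hW
  have hWV : W ≤ V := sup_le hZAV hZBV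
  have hWc : Nat.card W = p ^ 2 := by
    have := GlaubermanReplacement.card_sup_mul_card_inf (hab hZAV hZBV)
    rw [hdis, card_bot, mul_one, hcA, hcB] at this
    rw [this, pow_two]
  have hinv : ∀ (X : Subgroup G), X ≤ normalizer (V : Set G) → ⁅V, X⁆ ≤ W → X ≤ normalizer (W : Set G) :=
    fun X hXV hle x hx => by
      refine GlaubermanReplacement.mem_normalizer_of_conj_mem fun w hw => ?_
      have : x * w * x⁻¹ = ⁅w, x⁆⁻¹ * w := by simp only [commutatorElement_def]; group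
      rw [this]
      exact mul_mem (inv_mem (hle (commutator_mem_commutator (hWV hw) hx))) hw
  have heq : ⁅V, A ⊔ B⁆ = W := le_antisymm
    (commutator_sup_le (hinv A hAV le_sup_left) (hinv B hBV le_sup_right) le_sup_left le_sup_right)
    (sup_le (commutator_mono le_rfl le_sup_left) (commutator_mono le_rfl le_sup_right))
  have hWA : W ⊓ centralizer (A : Set G) = ZA := by
    refine le_antisymm ?_ (le_inf le_sup_left hZAc)
    rintro w ⟨hw, hwc⟩
    obtain ⟨z, hz, y, hy, rfl⟩ := (Coprime.mem_sup_of_le_normalizer (hab hZBV hZAV)).mp hw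
    have : y ∈ ZB ⊓ centralizer (A : Set G) := ⟨hy, (mul_mem_cancel_left (hZAc hz)).mp hwc⟩
    rw [mem_bot.mp (h2.le this), mul_one]; exact hz
  set C := V ⊓ centralizer ((A ⊔ B : Subgroup G) : Set G) with hC
  have hCeq : C = (V ⊓ centralizer (A : Set G)) ⊓ (V ⊓ centralizer (B : Set G)) := by
    refine le_antisymm (le_inf (inf_le_inf_left _ (centralizer_le (le_sup_left : A ≤ A ⊔ B)))
      (inf_le_inf_left _ (centralizer_le (le_sup_right : B ≤ A ⊔ B)))) ?_
    rintro v ⟨⟨hv, hva⟩, -, hvb⟩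
    refine ⟨hv, fun x hx => ?_⟩
    have hle : A ⊔ B ≤ centralizer ({v} : Set G) := sup_le
      (fun a ha => mem_centralizer_singleton_iff.mpr (hva a ha))
      (fun b hb => mem_centralizer_singleton_iff.mpr (hvb b hb))
    exact mem_centralizer_singleton_iff.mp (hle hx)
  have hWC : W ⊓ centralizer ((A ⊔ B : Subgroup G) : Set G) = ⊥ := by
    rw [eq_bot_iff, ← h1]
    rintro w ⟨hw, hc⟩
    exact ⟨hWA.le ⟨hw, centralizer_le (le_sup_left : A ≤ A ⊔ B) hc⟩, centralizer_le (le_sup_right : B ≤ A ⊔ B) hc⟩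
  have hsplit : W ⊔ C = V := by
    refine eq_of_le_of_card_ge (sup_le hWV inf_le_left) ?_
    have h3 := GlaubermanReplacement.card_sup_mul_card_inf (hab hWV (inf_le_left : C ≤ V))
    have hWC' : W ⊓ C = ⊥ := le_bot_iff.mp (hWC ▸ inf_le_inf_left _ inf_le_right)
    rw [hWC', card_bot, mul_one, hWc] at h3
    rw [h3]
    have h4 := Replacement.card_mul_card_le (V ⊓ centralizer (A : Set G)) (V ⊓ centralizer (B : Set G))
    rw [← hCeq] at h4
    have e1 : Nat.card V = p * Nat.card ↥(V ⊓ centralizer (A : Set G)) := by rw [← hA.card]; exact hA.full.symm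
    have e2 : Nat.card V = p * Nat.card ↥(V ⊓ centralizer (B : Set G)) := by rw [← hB.card]; exact hB.full.symm
    have h5 : Nat.card ↥(V ⊓ centralizer (A : Set G) ⊔ V ⊓ centralizer (B : Set G)) ≤ Nat.card V :=
      Nat.le_of_dvd Nat.card_pos (card_dvd_of_le (sup_le inf_le_left inf_le_left))
    refine Nat.le_of_mul_le_mul_left ?_ (Nat.card_pos (α := V))
    calc Nat.card V * Nat.card V
        = p ^ 2 * (Nat.card ↥(V ⊓ centralizer (A : Set G)) * Nat.card ↥(V ⊓ centralizer (B : Set G))) := by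
          nth_rw 1 [e1]; rw [e2]; ring
      _ ≤ p ^ 2 * (Nat.card ↥(V ⊓ centralizer (A : Set G) ⊔ V ⊓ centralizer (B : Set G)) * Nat.card C) :=
          Nat.mul_le_mul_left _ h4
      _ ≤ p ^ 2 * (Nat.card V * Nat.card C) := Nat.mul_le_mul_left _ (Nat.mul_le_mul_right _ h5)
      _ = _ := by ring
  refine ⟨by rw [heq, hWc], heq, ?_, by rw [heq]; exact hWC, by rw [heq]; exact hsplit,
    by rw [heq]; exact hWA⟩
  rw [heq, eq_bot_iff, ← inf_centralizer_bot_of s (sup_le hA.le hB.le)]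
  rintro d ⟨hd, hdW⟩
  refine ⟨hd, fun v hv => ?_⟩
  have hle : V ≤ centralizer ({d} : Set G) := by
    rw [← hsplit]
    exact sup_le (fun w hw => mem_centralizer_singleton_iff.mpr (hdW w hw))
      (fun c hc => mem_centralizer_singleton_iff.mpr (hc.2 d hd).symm)
  exact mem_centralizer_singleton_iff.mp (hle hv)

/-- Coordinates in which the generators are opposite transvections. -/
theorem plane_coords (s : Setup p V H F) {A B : Subgroup G} (hA : Point p V H A) (hB : Point p V H B)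
    (hnp : ¬ IsPGroup p ↥(A ⊔ B)) :
    ∃ (e₁ e₂ : G) (_ : Coord.Basis p ⁅V, A ⊔ B⁆ e₁ e₂) (a b : G) (t : ZMod p),
      zpowers a = A ∧ zpowers b = B ∧ t ≠ 0 ∧
      Coord.Acts e₁ e₂ a ((Classical.GL2.uniSL 1 : SL(2, ZMod p)) : Matrix (Fin 2) (Fin 2) (ZMod p)) ∧
      Coord.Acts e₁ e₂ b ((Classical.GL2.lowSL t : SL(2, ZMod p)) : Matrix (Fin 2) (Fin 2) (ZMod p)) := by
  have P := plane s hA hB hnp
  obtain ⟨hcA, -⟩ := point_facts s hA.le hA.card hA.full
  obtain ⟨hcB, -⟩ := point_facts s hB.le hB.card hB.full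
  obtain ⟨a, ha, ha1, hza⟩ := hA.gen
  obtain ⟨b, hb, hb1, hzb⟩ := hB.gen
  have h1 := not_module_le_fixed s hA hB hnp
  have h2 := not_module_le_fixed s hB hA (by rwa [sup_comm])
  have hVc := (ThompsonSubgroup.isElementaryAbelian_iff.mp s.elem).1
  have hne : ⁅V, B⁆ ≠ ⊥ := fun h => hp.out.ne_one (by rw [← hcB, h, card_bot])
  obtain ⟨e₂, he₂, he₂1⟩ := (bot_or_exists_ne_one ⁅V, B⁆).resolve_left hne
  have he₂V : e₂ ∈ V := ((hB.module_le s).trans inf_le_left) he₂
  have hz2 : zpowers e₂ = ⁅V, B⁆ := eq_of_le_of_card_ge (zpowers_le.mpr he₂)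
    (by rw [hcB, card_eq_p_of_ne_one (s.elem.2 e₂ he₂V) he₂1])
  set e₁ := a * e₂ * a⁻¹ * e₂⁻¹ with he₁def
  have he₁ : e₁ ∈ ⁅V, A⁆ := by
    have := inv_mem (commutator_mem_commutator he₂V ha)
    rwa [commutatorElement_inv, commutatorElement_def] at this
  have he₁1 : e₁ ≠ 1 := by
    intro h
    rw [he₁def, mul_inv_eq_one, mul_inv_eq_iff_eq_mul] at h
    refine he₂1 (mem_bot.mp (h2.le ⟨he₂, fun x hx => ?_⟩))
    rw [← hza] at hx
    obtain ⟨n, rfl⟩ := mem_zpowers_iff.mp hx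
    exact ((show Commute a e₂ from h).zpow_left n).eq
  have he₁V : e₁ ∈ V := ((hA.module_le s).trans inf_le_left) he₁
  have hz1 : zpowers e₁ = ⁅V, A⁆ := eq_of_le_of_card_ge (zpowers_le.mpr he₁)
    (by rw [hcA, card_eq_p_of_ne_one (s.elem.2 e₁ he₁V) he₁1])
  have hbas : Coord.Basis p ⁅V, A ⊔ B⁆ e₁ e₂ := by
    refine ⟨?_, ?_, ?_, hVc _ he₁V _ he₂V, s.elem.2 e₁ he₁V, s.elem.2 e₂ he₂V, P.card⟩
    · rw [P.eq_sup]; exact mem_sup_left he₁
    · rw [P.eq_sup]; exact mem_sup_right he₂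
    · rw [P.eq_sup, ← hz1, ← hz2]
      exact sup_le (zpowers_le.mpr (subset_closure (Or.inl rfl))) (zpowers_le.mpr (subset_closure (Or.inr rfl)))
  set u := b * e₁ * b⁻¹ * e₁⁻¹ with hu
  have huB : u ∈ ⁅V, B⁆ := by
    have := inv_mem (commutator_mem_commutator he₁V hb)
    rwa [commutatorElement_inv, commutatorElement_def] at this
  have hu1 : u ≠ 1 := by
    intro h
    rw [hu, mul_inv_eq_one, mul_inv_eq_iff_eq_mul] at h
    refine he₁1 (mem_bot.mp (h1.le ⟨he₁, fun x hx => ?_⟩))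
    rw [← hzb] at hx
    obtain ⟨n, rfl⟩ := mem_zpowers_iff.mp hx
    exact ((show Commute b e₁ from h).zpow_left n).eq
  obtain ⟨n, hn⟩ : ∃ n : ℕ, e₂ ^ n = u := mem_powers_iff_mem_zpowers.mpr (hz2 ▸ huB)
  refine ⟨e₁, e₂, hbas, a, b, (n : ZMod p), hza, hzb, ?_, fun x => ?_, fun x => ?_⟩
  · intro h0
    rw [ZMod.natCast_eq_zero_iff] at h0
    obtain ⟨m, rfl⟩ := h0
    rw [pow_mul, s.elem.2 e₂ he₂V, one_pow] at hn
    exact hu1 hn.symm
  · have ha1' : a * e₁ * a⁻¹ = e₁ := by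
      rw [((hA.module_le s) he₁).2 a ha, mul_inv_cancel_right]
    have ha2 : a * e₂ * a⁻¹ = e₁ * e₂ := by rw [he₁def]; group
    have hmv : (Classical.GL2.uniSL 1 : SL(2, ZMod p)).1.mulVec x = ![x 0 + x 1, x 1] := by
      ext i; fin_cases i <;> simp [Classical.GL2.coe_uniSL, Matrix.mulVec, dotProduct, Fin.sum_univ_two]
    rw [hmv]
    simp only [Coord.ι, Matrix.cons_val_zero, Matrix.cons_val_one]
    rw [← conj_mul, ← conj_pow, ← conj_pow, ha1', ha2, (show Commute e₁ e₂ from hbas.comm).mul_pow,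
      Coord.pow_val_add hbas.pow₁, mul_assoc]
  · have hb2 : b * e₂ * b⁻¹ = e₂ := by
      rw [((hB.module_le s) he₂).2 b hb, mul_inv_cancel_right]
    have hb1' : b * e₁ * b⁻¹ = e₂ ^ n * e₁ := by rw [hn, hu]; group
    have hmv : (Classical.GL2.lowSL (n : ZMod p) : SL(2, ZMod p)).1.mulVec x =
        ![x 0, (n : ZMod p) * x 0 + x 1] := by
      ext i; fin_cases i <;> simp [Classical.GL2.coe_lowSL, Matrix.mulVec, dotProduct, Fin.sum_univ_two]
    rw [hmv]
    simp only [Coord.ι, Matrix.cons_val_zero, Matrix.cons_val_one]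
    have hc : Commute (e₂ ^ n) e₁ := ((show Commute e₁ e₂ from hbas.comm).pow_right n).symm
    rw [← conj_mul, ← conj_pow, ← conj_pow, hb1', hb2, hc.mul_pow, Coord.pow_val_add hbas.pow₂,
      ← pow_mul, ← Coord.pow_val_nat hbas.pow₂ (n * (x 0).val), Nat.cast_mul, ZMod.natCast_rightInverse (x 0),
      ((show Commute e₁ e₂ from hbas.comm).pow_pow _ _).symm.eq, mul_assoc]

end Cfsg.Agent.PLocal.Offender
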