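import Mathlib
import Cfsg.Agent.Lib.PLocal.Offender.Plane
import Cfsg.Agent.Lib.PLocal.Offender.Commuting

/-!
An offender of order `p` and its commutator on the `p'`-core generate `SL(2, p)`.
-/

set_option linter.all false
set_option autoImplicit false

namespace Cfsg.Agent.PLocal.Offender

open Subgroup Cfsg
open scoped commutatorElement MatrixGroups

variable {G : Type*} [Group G]

/-- The elements normalizing `W` and acting trivially on `V / W`. -/
def trivialMod (V W : Subgroup G) : Subgroup G where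
  carrier := {g | g ∈ normalizer (W : Set G) ∧ ∀ v ∈ V, ⁅v, g⁆ ∈ W}
  one_mem' := ⟨one_mem _, fun v _ => by rw [commutatorElement_one_right]; exact one_mem _⟩
  mul_mem' := fun {x y} hx hy => ⟨mul_mem hx.1 hy.1, fun v hv => by
    rw [show ⁅v, x * y⁆ = ⁅v, x⁆ * (x * ⁅v, y⁆ * x⁻¹) by simp only [commutatorElement_def]; group]
    exact mul_mem (hx.2 v hv) ((mem_normalizer_iff.mp hx.1 _).mp (hy.2 v hv))⟩
  inv_mem' := fun {x} hx => ⟨inv_mem hx.1, fun v hv => by
    rw [show ⁅v, x⁻¹⁆ = x⁻¹ * ⁅v, x⁆⁻¹ * x⁻¹⁻¹ by simp only [commutatorElement_def]; group]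
    exact (mem_normalizer_iff.mp (inv_mem hx.1) _).mp (inv_mem (hx.2 v hv))⟩

theorem isSubnormal_of_nilpotent {N : Type*} [Group N] [Finite N] [Group.IsNilpotent N]
    (J : Subgroup N) : J.IsSubnormal := by
  induction J using WellFoundedGT.induction with | ind J ih => ?_
  by_cases h : J = ⊤
  · exact h ▸ Subgroup.IsSubnormal.top
  · have hlt := Group.normalizerCondition_of_isNilpotent J (lt_top_iff_ne_top.2 h)
    exact Subgroup.IsSubnormal.step _ _ Subgroup.le_normalizer (ih _ hlt)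
      ((Subgroup.normal_subgroupOf_iff_le_normalizer Subgroup.le_normalizer).2 le_rfl)

variable [Finite G] {p : ℕ} [hp : Fact p.Prime] {V H F : Subgroup G}

theorem conj_point_of_normalizes {A : Subgroup G} (hA : Point p V H A) {g : G}
    (hgH : g ∈ normalizer (H : Set G)) (hgV : g ∈ normalizer (V : Set G)) :
    Point p V H (A.map (MulAut.conj g).toMonoidHom) := by
  set f := (MulAut.conj g).toMonoidHom
  have hinj : Function.Injective f := (MulAut.conj g).injective
  have hc : ∀ X : Subgroup G, Nat.card ↥(X.map f) = Nat.card X := fun X =>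
    (Nat.card_congr (equivMapOfInjective X f hinj).toEquiv).symm
  refine ⟨?_, by rw [hc, hA.card], ?_⟩
  · rintro _ ⟨a, ha, rfl⟩; exact (mem_normalizer_iff.mp hgH a).mp (hA.le ha)
  · show _ = _
    have hV : V.map f = V := mem_normalizer_map.mp hgV
    have hC : V ⊓ centralizer ((A.map f : Subgroup G) : Set G) = (V ⊓ centralizer (A : Set G)).map f := by
      apply le_antisymm
      · rintro v ⟨hv, hvc⟩
        rw [← hV] at hv
        obtain ⟨w, hw, rfl⟩ := hv
        exact ⟨w, ⟨hw, fun a ha => hinj (by rw [map_mul, map_mul]; exact hvc _ ⟨a, ha, rfl⟩)⟩, rfl⟩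
      · rintro _ ⟨w, ⟨hw, hwc⟩, rfl⟩
        refine ⟨hV.le ⟨w, hw, rfl⟩, ?_⟩
        rintro _ ⟨a, ha, rfl⟩
        rw [← map_mul, ← map_mul, hwc a ha]
    rw [hC, hc, hc]; exact hA.full

theorem conj_point (s : Setup p V H F) {A : Subgroup G} (hA : Point p V H A) {g : G} (hg : g ∈ H) :
    Point p V H (A.map (MulAut.conj g).toMonoidHom) :=
  conj_point_of_normalizes hA (le_normalizer hg) (s.norm hg)

theorem point_inf_core (s : Setup p V H F) {A : Subgroup G} (hA : Point p V H A) : A ⊓ F = ⊥ :=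
  (Coprime.disjoint_of_coprime (coprime_of_elementary hA.elem s.core_cop)).eq_bot

theorem commutator_le_core (s : Setup p V H F) {A : Subgroup G} (hA : Point p V H A) :
    ⁅F ⊔ A, F ⊔ A⁆ ≤ F := by
  have hAF := hA.le.trans s.core_norm
  rw [commutator_le]
  intro d hd d' hd'
  obtain ⟨f, hf, a, ha, rfl⟩ := (Coprime.mem_sup_of_le_normalizer hAF).mp hd
  obtain ⟨f', hf', a', ha', rfl⟩ := (Coprime.mem_sup_of_le_normalizer hAF).mp hd'
  have hc : a' * a⁻¹ = a⁻¹ * a' :=
    ((ThompsonSubgroup.isElementaryAbelian_iff.mp hA.elem).1 _ (inv_mem ha) _ ha').symm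
  have e : ⁅f * a, f' * a'⁆ = f * (a * f' * a⁻¹) * (a' * f⁻¹ * a'⁻¹) * f'⁻¹ := by
    calc ⁅f * a, f' * a'⁆ = f * a * f' * (a' * a⁻¹) * f⁻¹ * a'⁻¹ * f'⁻¹ := by
          simp only [commutatorElement_def]; group
      _ = _ := by rw [hc]; group
  rw [e]
  exact mul_mem (mul_mem (mul_mem hf ((mem_normalizer_iff.mp (hAF ha) _).mp hf'))
    ((mem_normalizer_iff.mp (hAF ha') _).mp (inv_mem hf))) (inv_mem hf')

theorem mem_core_of_pow (s : Setup p V H F) {A : Subgroup G} (hA : Point p V H A) {d : G}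
    (hd : d ∈ F ⊔ A) {m : ℕ} (hm : m.Coprime p) (h : d ^ m = 1) : d ∈ F := by
  have hAF := hA.le.trans s.core_norm
  obtain ⟨f, hf, a, ha, rfl⟩ := (Coprime.mem_sup_of_le_normalizer hAF).mp hd
  have key : ∀ k : ℕ, ∃ g ∈ F, (f * a) ^ k = g * a ^ k := by
    intro k
    induction k with
    | zero => exact ⟨1, one_mem _, by simp⟩
    | succ k ih =>
      obtain ⟨g, hg, e⟩ := ih
      refine ⟨g * (a ^ k * f * (a ^ k)⁻¹), mul_mem hg ((mem_normalizer_iff.mp (hAF (pow_mem ha k)) _).mp hf), ?_⟩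
      rw [pow_succ, e, pow_succ a k]; group
  obtain ⟨g, hg, e⟩ := key m
  rw [h] at e
  have ham : a ^ m ∈ A ⊓ F := mem_inf.mpr ⟨pow_mem ha m, by
    rw [eq_inv_of_mul_eq_one_right e.symm]; exact inv_mem hg⟩
  rw [point_inf_core s hA, mem_bot] at ham
  have ha1 : a = 1 := orderOf_eq_one_iff.mp (Nat.eq_one_of_dvd_coprimes hm
    (orderOf_dvd_of_pow_eq_one ham) (orderOf_dvd_of_pow_eq_one (hA.elem.2 a ha)))
  rw [ha1, mul_one]; exact hf

theorem prime_small (s : Setup p V H F) {A L : Subgroup G} (hA : Point p V H A) (hL : L ≤ F ⊔ A)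
    (e : L ≃* SL(2, ZMod p)) : p = 2 ∨ p = 3 := by
  by_contra hcon
  push Not at hcon
  have h5 : 3 < p := by
    have := hp.out.two_le; omega
  have hfour : (4 : ZMod p) ≠ 1 := by
    intro h
    have h3 : ((3 : ℕ) : ZMod p) = 0 := by
      push_cast
      linear_combination h
    rw [ZMod.natCast_eq_zero_iff] at h3
    have := Nat.le_of_dvd (by norm_num) h3
    omega
  have h2 : (2 : ZMod p) ≠ 0 := by
    intro h
    have h2' : ((2 : ℕ) : ZMod p) = 0 := by push_cast; exact h
    rw [ZMod.natCast_eq_zero_iff] at h2'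
    have := Nat.le_of_dvd (by norm_num) h2'
    omega
  let t : SL(2, ZMod p) := ⟨!![2, 0; 0, 2⁻¹], by simp [Matrix.det_fin_two, h2]⟩
  set u : SL(2, ZMod p) := Classical.GL2.uniSL 1 with hu
  have hcomm : ⁅t, u⁆ = Classical.GL2.uniSL (4 - 1 : ZMod p) := by
    have e1 : t * u = Classical.GL2.uniSL (4 : ZMod p) * t := by
      refine Classical.GL2.sl_ext ?_
      show !![(2 : ZMod p), 0; 0, 2⁻¹] * !![(1 : ZMod p), 1; 0, 1] = !![(1 : ZMod p), 4; 0, 1] * !![(2 : ZMod p), 0; 0, 2⁻¹]
      ext i j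
      fin_cases i <;> fin_cases j <;> simp [Matrix.mul_apply, Fin.sum_univ_two]
      field_simp
      norm_num
    rw [commutatorElement_def, e1, mul_inv_cancel_right, hu]
    refine mul_inv_eq_of_eq_mul ?_
    rw [Classical.GL2.uniSL_mul, sub_add_cancel]
  have hmem : ((e.symm ⁅t, u⁆ : L) : G) ∈ F := by
    rw [map_commutatorElement]
    exact commutator_le_core s hA (commutator_mem_commutator (hL (e.symm t).2) (hL (e.symm u).2))
  have hpow : ((e.symm ⁅t, u⁆ : L) : G) ^ p = 1 := by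
    have h1 : ⁅t, u⁆ ^ p = 1 := by
      rw [hcomm, show (4 - 1 : ZMod p) = (((4 - 1 : ZMod p).val : ℕ) : ZMod p) from (ZMod.natCast_rightInverse _).symm,
        ← Coord.uniSL_natCast, ← pow_mul, mul_comm, pow_mul, Coord.uniSL_natCast, ZMod.natCast_self]
      have : Classical.GL2.uniSL (0 : ZMod p) = 1 := by
        refine Classical.GL2.sl_ext ?_
        simp [Classical.GL2.coe_uniSL, Matrix.one_fin_two]
      rw [this, one_pow]
    rw [← SubmonoidClass.coe_pow, ← map_pow, h1, map_one, OneMemClass.coe_one]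
  have h1 : ((e.symm ⁅t, u⁆ : L) : G) = 1 := orderOf_eq_one_iff.mp (Nat.eq_one_of_dvd_coprimes
    s.core_cop (F.orderOf_dvd_natCard hmem) (orderOf_dvd_of_pow_eq_one hpow))
  have h0 : ⁅t, u⁆ = 1 := e.symm.map_eq_one_iff.mp (Subtype.ext h1)
  rw [hcomm] at h0
  have := congrFun (congrFun (congrArg Subtype.val h0) 0) 1
  simp [Classical.GL2.coe_uniSL] at this
  exact hfour (sub_eq_zero.mp this)

/-- The prime attached to the factor. -/
def factorPrime (p : ℕ) : ℕ := if p = 2 then 3 else 2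

def w2 : SL(2, ZMod 2) := ⟨!![0, 1; 1, 1], by decide⟩
def w3 : SL(2, ZMod 3) := ⟨!![0, 1; -1, 0], by decide⟩
def v3 : SL(2, ZMod 3) := ⟨!![1, 1; 1, -1], by decide⟩

theorem w2_pow : w2 ^ factorPrime 2 ^ 1 = 1 := by decide
theorem w2_ne : w2 ≠ 1 := by decide
theorem w3_pow : w3 ^ factorPrime 3 ^ 2 = 1 := by decide
theorem v3_pow : v3 ^ factorPrime 3 ^ 2 = 1 := by decide
theorem w3_ne : w3 ≠ 1 := by decide
theorem w3_v3 : w3 * v3 ≠ v3 * w3 := by decide

theorem factorPrime_prime (p : ℕ) : (factorPrime p).Prime := by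
  unfold factorPrime; split <;> norm_num

/-- Facts on the `p'`-part of the group generated by two offenders. -/
structure CoreData (p : ℕ) (V F A B : Subgroup G) : Prop where
  small : p = 2 ∨ p = 3
  exists_q : ∃ n ∈ F ⊓ (A ⊔ B), n ≠ 1 ∧ ∃ k, n ^ factorPrime p ^ k = 1
  noncomm : p = 3 → ∃ m ∈ F ⊓ (A ⊔ B), ∃ n ∈ F ⊓ (A ⊔ B), m * n ≠ n * m
  module : ⁅V, F ⊓ (A ⊔ B)⁆ = ⁅V, A ⊔ B⁆
  irr : Irr V (F ⊓ (A ⊔ B))
  big : 2 < Nat.card ↥(F ⊓ (A ⊔ B))

theorem core_data (s : Setup p V H F) {A B : Subgroup G} (hA : Point p V H A) (hB : Point p V H B)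
    (hBA : B ≤ F ⊔ A) (hne : A ≠ B) : CoreData p V F A B := by
  have hnp := not_isPGroup_sup s hA hB hBA hne
  have P := plane s hA hB hnp
  obtain ⟨e₁, e₂, hbas, a, b, t, hza, hzb, ht, hactA, hactB⟩ := plane_coords s hA hB hnp
  have ha : a ∈ A := hza ▸ mem_zpowers a
  have hb : b ∈ B := hzb ▸ mem_zpowers b
  set D := A ⊔ B with hD
  have hDle : D ≤ F ⊔ A := sup_le le_sup_right hBA
  have hsp : D ≤ Coord.special hbas := sup_le
    (hza ▸ zpowers_le.mpr ⟨_, hactA⟩) (hzb ▸ zpowers_le.mpr ⟨_, hactB⟩)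
  obtain ⟨e, he⟩ := Coord.iso_of_actions hbas hsp P.faithful (mem_sup_left ha) (mem_sup_right hb) ht hactA hactB
  have hsmall := prime_small s hA hDle e
  set N := F ⊓ D with hN
  have hDH : D ≤ H := sup_le hA.le hB.le
  have hDN : D ≤ normalizer (N : Set G) := le_normalizer_inf (hDH.trans s.core_norm) le_normalizer
  have hNV : N ≤ normalizer (V : Set G) := inf_le_right.trans (hDH.trans s.norm)
  -- small elements of `SL(2, p)` give elements of `N`
  have hpull : ∀ w : SL(2, ZMod p), ∀ k : ℕ, w ^ factorPrime p ^ k = 1 →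
      ((e.symm w : D) : G) ∈ N ∧ ((e.symm w : D) : G) ^ factorPrime p ^ k = 1 := by
    intro w k hw
    have h1 : ((e.symm w : D) : G) ^ factorPrime p ^ k = 1 := by
      rw [← SubmonoidClass.coe_pow, ← map_pow, hw, map_one, OneMemClass.coe_one]
    refine ⟨⟨mem_core_of_pow s hA (hDle (e.symm w).2) ?_ h1, (e.symm w).2⟩, h1⟩
    refine Nat.Coprime.pow_left k ((Nat.coprime_primes (factorPrime_prime p) hp.out).mpr ?_)
    rcases hsmall with rfl | rfl <;> decide
  have hq : ∃ n ∈ N, n ≠ 1 ∧ ∃ k, n ^ factorPrime p ^ k = 1 := by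
    rcases hsmall with rfl | rfl
    · let w : SL(2, ZMod 2) := w2
      obtain ⟨h1, h2⟩ := hpull w 1 w2_pow
      refine ⟨_, h1, fun h => ?_, 1, h2⟩
      have : w = 1 := e.symm.map_eq_one_iff.mp (Subtype.ext h)
      exact w2_ne this
    · let w : SL(2, ZMod 3) := w3
      obtain ⟨h1, h2⟩ := hpull w 2 w3_pow
      refine ⟨_, h1, fun h => ?_, 2, h2⟩
      have : w = 1 := e.symm.map_eq_one_iff.mp (Subtype.ext h)
      exact w3_ne this
  have hnc : p = 3 → ∃ m ∈ N, ∃ n ∈ N, m * n ≠ n * m := by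
    rintro rfl
    let w : SL(2, ZMod 3) := w3
    let v : SL(2, ZMod 3) := v3
    refine ⟨_, (hpull w 2 w3_pow).1, _, (hpull v 2 v3_pow).1, fun h => ?_⟩
    have : w * v = v * w := e.symm.injective (by
      rw [map_mul, map_mul]; exact Subtype.ext h)
    exact w3_v3 this
  have hNne : N ≠ ⊥ := by
    obtain ⟨n, hn, hn1, -⟩ := hq
    exact fun h => hn1 (mem_bot.mp (h ▸ hn))
  have hNf : N ⊓ centralizer (V : Set G) = ⊥ :=
    inf_centralizer_bot_of s (inf_le_right.trans hDH)
  have hcopN : (Nat.card N).Coprime p := s.core_cop.coprime_dvd_left (card_dvd_of_le inf_le_left)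
  have hWV : ⁅V, D⁆ ≤ V := le_normalizer_iff_commutator_le_left.mp (hDH.trans s.norm)
  have hWp : ∀ U : Subgroup G, U ≤ ⁅V, D⁆ → U ≠ ⊥ → U ≠ ⁅V, D⁆ → Nat.card U = p := by
    intro U hU h0 h1
    obtain ⟨i, hi, hi'⟩ := (Nat.dvd_prime_pow hp.out).mp (P.card ▸ card_dvd_of_le hU)
    interval_cases i
    · exact absurd (card_eq_one.mp (by simpa using hi')) h0
    · simpa using hi'
    · exact absurd (eq_of_le_of_card_ge hU (by rw [P.card, hi'])) h1
  -- a line invariant under a point is its module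
  have hline : ∀ (X : Subgroup G), Point p V H X → ∀ U : Subgroup G, U ≤ V → Nat.card U = p →
      X ≤ normalizer (U : Set G) → U ≤ centralizer (X : Set G) := by
    intro X hX U hUV hc hn
    rw [le_centralizer_iff, le_centralizer_iff_commutator]
    by_contra hne'
    have hle : ⁅U, X⁆ ≤ U := le_normalizer_iff_commutator_le_left.mp hn
    have heq : ⁅U, X⁆ = U := by
      rcases (Nat.dvd_prime hp.out).mp (hc ▸ card_dvd_of_le hle) with h | h
      · exact absurd (card_eq_one.mp h) hne'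
      · exact eq_of_le_of_card_ge hle (by rw [hc, h])
    have h0 := Replacement.eq_bot_of_le_commutator
      (((ThompsonSubgroup.IsElementaryAbelian.isPGroup s.elem).to_le hUV).to_sup_of_normal_left'
        (ThompsonSubgroup.IsElementaryAbelian.isPGroup hX.elem) hn)
      (le_sup_left : U ≤ U ⊔ X) (heq.ge.trans (commutator_mono le_rfl le_sup_right))
    rw [h0, card_bot] at hc
    exact hp.out.ne_one hc.symm
  have hmod : ⁅V, N⁆ = ⁅V, D⁆ := by
    by_contra hne'
    have hle : ⁅V, N⁆ ≤ ⁅V, D⁆ := commutator_mono le_rfl inf_le_right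
    have h0 : ⁅V, N⁆ ≠ ⊥ := fun h => hNne (le_bot_iff.mp (hNf ▸ le_inf le_rfl
      (le_centralizer_iff_commutator.mpr h)))
    have hc := hWp _ hle h0 hne'
    have hinv : D ≤ normalizer ((⁅V, N⁆ : Subgroup G) : Set G) := fun d hd =>
      conj_mem_commutator (s.norm (hDH hd)) (hDN hd)
    have hA1 : ⁅V, N⁆ ≤ ⁅V, A⁆ := by
      rw [← P.fixed_left]
      exact le_inf hle (hline A hA _ (hle.trans hWV) hc (le_sup_left.trans hinv))
    obtain ⟨hcA, -⟩ := point_facts s hA.le hA.card hA.full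
    have heq : ⁅V, N⁆ = ⁅V, A⁆ := eq_of_le_of_card_ge hA1 (by rw [hcA, hc])
    have h1 := not_module_le_fixed s hA hB hnp
    rw [← heq, inf_eq_left.mpr (hline B hB _ (hle.trans hWV) hc (le_sup_right.trans hinv))] at h1
    exact h0 h1
  refine ⟨hsmall, hq, hnc, hmod, fun U hU hUn => ?_, ?_⟩
  · rw [hmod] at hU ⊢
    by_contra hcon
    push Not at hcon
    have hc := hWp U hU hcon.1 hcon.2
    rcases hsmall with rfl | rfl
    · -- a line over two elements is fixed
      have hfix : U ≤ centralizer (N : Set G) := by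
        intro u hu n hn
        have hu' : n * u * n⁻¹ ∈ U := (mem_normalizer_iff.mp (hUn hn) u).mp hu
        rcases eq_or_ne u 1 with rfl | hu1
        · simp
        have hz : zpowers u = U := eq_of_le_of_card_ge (zpowers_le.mpr hu)
          (by rw [hc, card_eq_p_of_ne_one (s.elem.2 u (hWV (hU hu))) hu1])
        rw [← hz] at hu'
        obtain ⟨i, hi⟩ : ∃ i : ℕ, u ^ i = n * u * n⁻¹ := mem_powers_iff_mem_zpowers.mpr hu'
        rw [pow_eq_pow_mod i (s.elem.2 u (hWV (hU hu)))] at hi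
        rcases Nat.mod_two_eq_zero_or_one i with h | h <;> rw [h] at hi
        · rw [pow_zero] at hi
          exact absurd (conj_eq_one_iff.mp hi.symm) hu1
        · rw [pow_one] at hi
          exact (mul_inv_eq_iff_eq_mul.mp hi.symm)
      haveI : IsMulCommutative V := s.elem.1
      have h0 := Coprime.inf_centralizer_inf_commutator hNV (by
        obtain ⟨i, hi⟩ := (ThompsonSubgroup.IsElementaryAbelian.isPGroup s.elem).exists_card_eq
        rw [hi]; exact hcopN.pow_right i)
      rw [hmod] at h0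
      exact hcon.1 (le_bot_iff.mp (h0 ▸ le_inf (le_inf (hU.trans hWV) hfix) hU))
    · obtain ⟨m, hm, n, hn, hmn⟩ := hnc rfl
      have hfin : ∀ {x u : G}, u ∈ U → x ∈ N → ∃ i : ℕ, u ≠ 1 → x * u * x⁻¹ = u ^ i := by
        intro x u hu hx
        rcases eq_or_ne u 1 with rfl | hu1
        · exact ⟨0, fun h => absurd rfl h⟩
        have hz : zpowers u = U := eq_of_le_of_card_ge (zpowers_le.mpr hu)
          (by rw [hc, card_eq_p_of_ne_one (s.elem.2 u (hWV (hU hu))) hu1])
        have hu' : x * u * x⁻¹ ∈ zpowers u := hz.symm ▸ (mem_normalizer_iff.mp (hUn hx) u).mp hu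
        obtain ⟨i, hi⟩ : ∃ i : ℕ, u ^ i = x * u * x⁻¹ := mem_powers_iff_mem_zpowers.mpr hu'
        exact ⟨i, fun _ => hi.symm⟩
      set c := ⁅n, m⁆ with hc'
      have hcN : c ∈ N :=
        commutator_le.mpr (fun x hx y hy => mul_mem (mul_mem (mul_mem hx hy) (inv_mem hx)) (inv_mem hy))
          (commutator_mem_commutator hn hm)
      have hcU : ∀ u ∈ U, c * u = u * c := by
        intro u hu
        rcases eq_or_ne u 1 with rfl | hu1
        · simp
        obtain ⟨i, hi⟩ := hfin hu hn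
        obtain ⟨j, hj⟩ := hfin hu hm
        have hcomm : (n * m) * u * (n * m)⁻¹ = (m * n) * u * (m * n)⁻¹ := by
          calc (n * m) * u * (n * m)⁻¹ = n * (m * u * m⁻¹) * n⁻¹ := by group
            _ = (u ^ i) ^ j := by rw [hj hu1, ← conj_pow, hi hu1]
            _ = (u ^ j) ^ i := by rw [← pow_mul, ← pow_mul, mul_comm]
            _ = m * (n * u * n⁻¹) * m⁻¹ := by rw [hi hu1, ← conj_pow, hj hu1]
            _ = _ := by group
        have hmn' : u = (m * n)⁻¹ * ((m * n) * u * (m * n)⁻¹) * (m * n) := by group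
        calc c * u = (n * m) * ((m * n)⁻¹ * u) := by
              simp only [hc', commutatorElement_def]; group
          _ = ((n * m) * ((m * n)⁻¹ * u * (m * n)) * (n * m)⁻¹) * c := by
              simp only [hc', commutatorElement_def]; group
          _ = u * c := by
              have hk : (m * n)⁻¹ * u * (m * n) ∈ U := by
                have := (mem_normalizer_iff.mp (hUn (inv_mem (mul_mem hm hn))) u).mp hu
                simpa using this
              obtain ⟨i', hi'⟩ := hfin hk hn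
              obtain ⟨j', hj'⟩ := hfin hk hm
              congr 1
              rcases eq_or_ne ((m * n)⁻¹ * u * (m * n)) 1 with hk1 | hk1
              · exfalso; exact hu1 (by
                  calc u = (m * n) * ((m * n)⁻¹ * u * (m * n)) * (m * n)⁻¹ := by group
                    _ = 1 := by rw [hk1]; group)
              calc (n * m) * ((m * n)⁻¹ * u * (m * n)) * (n * m)⁻¹
                  = n * (m * ((m * n)⁻¹ * u * (m * n)) * m⁻¹) * n⁻¹ := by group
                _ = (((m * n)⁻¹ * u * (m * n)) ^ i') ^ j' := by rw [hj' hk1, ← conj_pow, hi' hk1]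
                _ = (((m * n)⁻¹ * u * (m * n)) ^ j') ^ i' := by rw [← pow_mul, ← pow_mul, mul_comm]
                _ = m * (n * ((m * n)⁻¹ * u * (m * n)) * n⁻¹) * m⁻¹ := by rw [hi' hk1, ← conj_pow, hj' hk1]
                _ = u := by group
      -- and on the quotient line
      set W := ⁅V, D⁆ with hW
      have hNW : N ≤ normalizer (W : Set G) := inf_le_right.trans (normalizer_commutator_ge_right V D)
      have hVc := (ThompsonSubgroup.isElementaryAbelian_iff.mp s.elem).1
      have hWU : ⁅W, zpowers c⁆ ≤ U := by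
        obtain ⟨w, hw, hwU⟩ := SetLike.exists_of_lt (lt_of_le_of_ne hU hcon.2)
        have hsup : U ⊔ zpowers w = W := by
          refine eq_of_le_of_card_ge (sup_le hU (zpowers_le.mpr hw)) ?_
          rw [P.card, card_sup_zpowers (ThompsonSubgroup.IsElementaryAbelian.mono s.elem hWV) hU hw hwU, hc]
          exact (pow_two 3).le
        have hmod' : ∀ x ∈ N, ∃ i : ℕ, ∀ (k : ℕ), ∀ u ∈ U, ∃ u' ∈ U, x * (u * w ^ k) * x⁻¹ = u' * (w ^ i) ^ k := by
          intro x hx
          have hxw : x * w * x⁻¹ ∈ U ⊔ zpowers w := hsup.symm ▸ (mem_normalizer_iff.mp (hNW hx) w).mp hw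
          obtain ⟨u₀, hu₀, y, hy, he⟩ := (Coprime.mem_sup_of_le_normalizer
            (fun y hy => centralizer_le_normalizer _ fun z hz =>
              hVc z (hWV (hU hz)) y (hWV (zpowers_le.mpr hw hy)))).mp hxw
          obtain ⟨i, rfl⟩ : ∃ i : ℕ, w ^ i = y := mem_powers_iff_mem_zpowers.mpr hy
          refine ⟨i, fun k u hu => ⟨x * u * x⁻¹ * u₀ ^ k,
            mul_mem ((mem_normalizer_iff.mp (hUn hx) u).mp hu) (pow_mem hu₀ k), ?_⟩⟩
          have hcm : Commute u₀ (w ^ i) := hVc _ (hWV (hU hu₀)) _ (hWV (pow_mem hw i))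
          calc x * (u * w ^ k) * x⁻¹ = (x * u * x⁻¹) * (x * w * x⁻¹) ^ k := by
                rw [conj_pow]; group
            _ = _ := by rw [← he, hcm.mul_pow]; simp only [mul_assoc]
        obtain ⟨i, hi⟩ := hmod' n hn
        obtain ⟨j, hj⟩ := hmod' m hm
        have hnm : ∃ u ∈ U, (n * m) * w * (n * m)⁻¹ = u * w ^ (i * j) := by
          obtain ⟨u1, hu1, e1⟩ := hj 1 1 (one_mem _)
          rw [one_mul, pow_one, pow_one] at e1
          obtain ⟨u2, hu2, e2⟩ := hi j u1 hu1
          refine ⟨u2, hu2, ?_⟩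
          calc (n * m) * w * (n * m)⁻¹ = n * (m * w * m⁻¹) * n⁻¹ := by group
            _ = _ := by rw [e1, e2, ← pow_mul]
        have hmn' : ∃ u ∈ U, (m * n) * w * (m * n)⁻¹ = u * w ^ (i * j) := by
          obtain ⟨u1, hu1, e1⟩ := hi 1 1 (one_mem _)
          rw [one_mul, pow_one, pow_one] at e1
          obtain ⟨u2, hu2, e2⟩ := hj i u1 hu1
          refine ⟨u2, hu2, ?_⟩
          calc (m * n) * w * (m * n)⁻¹ = m * (n * w * n⁻¹) * m⁻¹ := by group
            _ = _ := by rw [e1, e2, ← pow_mul, mul_comm j i]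
        obtain ⟨u, hu, eu⟩ := hnm
        obtain ⟨u', hu', eu'⟩ := hmn'
        have hcW : ∀ x ∈ W, ∃ r ∈ U, c * x * c⁻¹ = r * x := by
          set g := (m * n) * w * (m * n)⁻¹ with hg
          have hgc : c * g * c⁻¹ = u * u'⁻¹ * g := by
            calc c * g * c⁻¹ = (n * m) * w * (n * m)⁻¹ := by
                  simp only [hc', hg, commutatorElement_def]; group
              _ = u * u'⁻¹ * g := by rw [eu, eu']; group
          have hgW : W = U ⊔ zpowers g := by
            have h1 : (U ⊔ zpowers w).map (MulAut.conj (m * n)).toMonoidHom = W := by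
              rw [hsup]; exact mem_normalizer_map.mp (hNW (mul_mem hm hn))
            rw [Subgroup.map_sup, mem_normalizer_map.mp (hUn (mul_mem hm hn)), MonoidHom.map_zpowers] at h1
            rw [← h1]; rfl
          intro x hx
          rw [hgW] at hx
          have hgV : g ∈ V := hWV ((mem_normalizer_iff.mp (hNW (mul_mem hm hn)) w).mp hw)
          obtain ⟨r, hr, y, hy, rfl⟩ := (Coprime.mem_sup_of_le_normalizer
            (fun y hy => centralizer_le_normalizer _ fun z hz =>
              hVc z (hWV (hU hz)) y (zpowers_le.mpr hgV hy))).mp hx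
          obtain ⟨k, rfl⟩ : ∃ k : ℕ, g ^ k = y := mem_powers_iff_mem_zpowers.mpr hy
          refine ⟨(u * u'⁻¹) ^ k, pow_mem (mul_mem hu (inv_mem hu')) k, ?_⟩
          have hcr : c * r * c⁻¹ = r := by rw [hcU r hr, mul_inv_cancel_right]
          have hcm : Commute (u * u'⁻¹) g := hVc _ (hWV (hU (mul_mem hu (inv_mem hu')))) _ hgV
          calc c * (r * g ^ k) * c⁻¹ = (c * r * c⁻¹) * (c * g * c⁻¹) ^ k := by rw [conj_pow (a := c)]; group
            _ = r * ((u * u'⁻¹) ^ k * g ^ k) := by rw [hcr, hgc, hcm.mul_pow]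
            _ = (u * u'⁻¹) ^ k * (r * g ^ k) := by
                rw [← mul_assoc, hVc r (hWV (hU hr)) _ (pow_mem (hWV (hU (mul_mem hu (inv_mem hu')))) k), mul_assoc]
        refine commutator_le.mpr fun x hx y hy => ?_
        obtain ⟨k, rfl⟩ : ∃ k : ℕ, c ^ k = y := mem_powers_iff_mem_zpowers.mpr hy
        have hk : ∀ k : ℕ, ∀ x ∈ W, ∃ r ∈ U, c ^ k * x * (c ^ k)⁻¹ = r * x := by
          intro k
          induction k with
          | zero => intro x _; exact ⟨1, one_mem _, by simp⟩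
          | succ k ih =>
            intro x hx
            obtain ⟨r, hr, e⟩ := hcW x hx
            obtain ⟨r', hr', e'⟩ := ih (r * x) (mul_mem (hU hr) hx)
            refine ⟨r' * r, mul_mem hr' hr, ?_⟩
            calc c ^ (k + 1) * x * (c ^ (k + 1))⁻¹ = c ^ k * (c * x * c⁻¹) * (c ^ k)⁻¹ := by
                  rw [pow_succ]; group
              _ = _ := by rw [e, e', mul_assoc]
        obtain ⟨r, hr, e⟩ := hk k x⁻¹ (inv_mem hx)
        rw [commutatorElement_def, mul_assoc, mul_assoc, ← mul_assoc (c ^ k), e, ← mul_assoc,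
          hVc x (hWV hx) r (hWV (hU hr)), mul_inv_cancel_right]
        exact hr
      have hcz : zpowers c ≤ N := zpowers_le.mpr hcN
      have hP := isPGroup_of_series s.elem (hcz.trans hNV) (le_bot_iff.mp (hNf ▸ inf_le_inf_right _ hcz))
        (hcz.trans hNW) hWV (hmod ▸ commutator_mono le_rfl hcz) hWU
        (le_centralizer_iff_commutator.mp (zpowers_le.mpr fun u hu => (hcU u hu).symm))
      obtain ⟨i, hi⟩ := hP ⟨c, mem_zpowers c⟩
      have hc1 : c = 1 := orderOf_eq_one_iff.mp (Nat.eq_one_of_dvd_coprimes (hcopN.pow_right i)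
        (N.orderOf_dvd_natCard hcN) (orderOf_dvd_of_pow_eq_one (congrArg Subtype.val hi)))
      exact hmn (commutatorElement_eq_one_iff_mul_comm.mp hc1).symm
  · rcases Nat.lt_or_ge 2 (Nat.card N) with h | h
    · exact h
    exfalso
    have h1 : Nat.card N ≠ 1 := fun h => hNne (card_eq_one.mp h)
    have hpos : 0 < Nat.card N := Nat.card_pos
    have h2 : Nat.card N = 2 := by omega
    rcases hsmall with rfl | rfl
    · rw [h2] at hcopN; simp at hcopN
    · obtain ⟨m, hm, n, hn, hmn⟩ := hnc rfl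
      haveI := isCyclic_of_prime_card (p := 2) h2
      exact hmn (congrArg Subtype.val (IsMulCommutative.is_comm.comm (⟨m, hm⟩ : N) ⟨n, hn⟩))

/-- The factor belonging to an offender of order `p`. -/
structure FactorData (p : ℕ) [Fact p.Prime] (V H F A : Subgroup G) : Prop where
  small : p = 2 ∨ p = 3
  qgroup : IsPGroup (factorPrime p) ↥⁅F, A⁆
  noncomm : p = 3 → ¬ IsMulCommutative ↥⁅F, A⁆
  iso : Nonempty (↥(⁅F, A⁆ ⊔ A) ≃* SL(2, ZMod p))
  card : Nat.card ↥⁅V, ⁅F, A⁆ ⊔ A⁆ = p ^ 2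
  faithful : (⁅F, A⁆ ⊔ A) ⊓ centralizer ((⁅V, ⁅F, A⁆ ⊔ A⁆ : Subgroup G) : Set G) = ⊥
  disj : ⁅V, ⁅F, A⁆ ⊔ A⁆ ⊓ (V ⊓ centralizer ((⁅F, A⁆ ⊔ A : Subgroup G) : Set G)) = ⊥
  split : ⁅V, ⁅F, A⁆ ⊔ A⁆ ⊔ (V ⊓ centralizer ((⁅F, A⁆ ⊔ A : Subgroup G) : Set G)) = V
  fixed : V ⊓ centralizer ((⁅F, A⁆ ⊔ A : Subgroup G) : Set G) = V ⊓ centralizer ((⁅F, A⁆ : Subgroup G) : Set G)
  module : ⁅V, ⁅F, A⁆⁆ = ⁅V, ⁅F, A⁆ ⊔ A⁆
  irr : Irr V ⁅F, A⁆
  big : 2 < Nat.card ↥⁅F, A⁆
  basis : ∃ (e₁ e₂ : G) (hb : Coord.Basis p ⁅V, ⁅F, A⁆ ⊔ A⁆ e₁ e₂) (e : ↥(⁅F, A⁆ ⊔ A) ≃* SL(2, ZMod p)),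
    (⁅F, A⁆ ⊔ A ≤ Coord.special hb) ∧
    ∀ d : ↥(⁅F, A⁆ ⊔ A), Coord.Acts e₁ e₂ (d : G) (e d : Matrix (Fin 2) (Fin 2) (ZMod p))

theorem exists_mover (s : Setup p V H F) {A : Subgroup G} (hA : Point p V H A) :
    ∃ x ∈ F, x ∉ centralizer (A : Set G) := by
  by_contra h
  push Not at h
  have hle : A ≤ F := fun a ha => s.core_cent ⟨hA.le ha, fun x hx => (h x hx a ha).symm⟩
  have := point_inf_core s hA
  rw [inf_eq_left.mpr hle] at this
  exact hp.out.ne_one (by rw [← hA.card, this, card_bot])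

theorem conj_le_sup (s : Setup p V H F) {A : Subgroup G} (hA : Point p V H A) {x : G} (hx : x ∈ F) :
    A.map (MulAut.conj x).toMonoidHom ≤ ⁅F, A⁆ ⊔ A := by
  rintro _ ⟨a, ha, rfl⟩
  have : MulAut.conj x a = ⁅x, a⁆ * a := by simp only [MulAut.conj_apply, commutatorElement_def]; group
  show MulAut.conj x a ∈ _
  rw [this]
  exact mul_mem (mem_sup_left (commutator_mem_commutator hx ha)) (mem_sup_right ha)

theorem conj_ne (s : Setup p V H F) {A : Subgroup G} (hA : Point p V H A) {x : G} (hx : x ∈ F)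
    (hxA : x ∉ centralizer (A : Set G)) : A ≠ A.map (MulAut.conj x).toMonoidHom := by
  intro h
  refine hxA fun a ha => ?_
  have h1 : ⁅x, a⁆ ∈ A ⊓ F := by
    refine mem_inf.mpr ⟨?_, ?_⟩
    · have : x * a * x⁻¹ ∈ A := h.symm ▸ ⟨a, ha, rfl⟩
      exact mul_mem this (inv_mem ha)
    · rw [commutatorElement_def, mul_assoc, mul_assoc, ← mul_assoc a]
      exact mul_mem hx ((mem_normalizer_iff.mp (s.core_norm (hA.le ha)) _).mp (inv_mem hx))
  rw [point_inf_core s hA, mem_bot, commutatorElement_eq_one_iff_mul_comm] at h1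
  exact h1.symm

theorem qgroup (s : Setup p V H F) {A : Subgroup G} (hA : Point p V H A) :
    IsPGroup (factorPrime p) ↥⁅F, A⁆ := by
  set q := factorPrime p with hq
  haveI : Fact q.Prime := ⟨factorPrime_prime p⟩
  have hAF := hA.le.trans s.core_norm
  have hcop := coprime_of_elementary hA.elem s.core_cop
  haveI : IsMulCommutative A := hA.elem.1
  have hsolv := Coprime.isSolvable_of_isMulCommutative A
  have hfix : ∀ r : ℕ, r.Prime → r ≠ q → ∀ P : Sylow r F,
      A ≤ normalizer ((P : Subgroup F).map F.subtype : Set G) →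
      (P : Subgroup F).map F.subtype ≤ centralizer (A : Set G) := by
    intro r hr hrq P hP x hxP
    by_contra hxA
    haveI := Fact.mk hr
    set R := (P : Subgroup F).map F.subtype with hR
    have hRF : R ≤ F := map_subtype_le _
    have hxF : x ∈ F := hRF hxP
    set B := A.map (MulAut.conj x).toMonoidHom with hB
    have hBp := conj_point s hA (s.core_le hxF)
    have hBA : B ≤ F ⊔ A := (conj_le_sup s hA hxF).trans
      (sup_le_sup_right (le_normalizer_iff_commutator_le_left.mp hAF) A)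
    have hd := core_data s hA hBp hBA (conj_ne s hA hxF hxA)
    obtain ⟨n, ⟨hnF, hnD⟩, hn1, k, hk⟩ := hd.exists_q
    have hBR : B ≤ R ⊔ A := by
      rintro _ ⟨a, ha, rfl⟩
      show x * a * x⁻¹ ∈ R ⊔ A
      exact mul_mem (mul_mem (mem_sup_left hxP) (mem_sup_right ha)) (inv_mem (mem_sup_left hxP))
    obtain ⟨y, hy, a, ha, rfl⟩ := (Coprime.mem_sup_of_le_normalizer hP).mp (sup_le le_sup_right hBR hnD)
    have ha1 : a ∈ A ⊓ F := ⟨ha, (mul_mem_cancel_left (hRF hy)).mp hnF⟩
    rw [point_inf_core s hA, mem_bot] at ha1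
    subst ha1
    rw [mul_one] at hn1 hk
    obtain ⟨j, hj⟩ := (P.2.map F.subtype) ⟨y, hy⟩
    exact hn1 (orderOf_eq_one_iff.mp (Nat.eq_one_of_dvd_coprimes
      ((Nat.coprime_primes hr (factorPrime_prime p)).mpr hrq |>.pow j k)
      (orderOf_dvd_of_pow_eq_one (congrArg Subtype.val hj)) (orderOf_dvd_of_pow_eq_one hk)))
  set C := F ⊓ centralizer (A : Set G) with hC
  have hidx : ∀ r : ℕ, r.Prime → r ≠ q → ¬ r ∣ C.relIndex F := by
    intro r hr hrq hd
    haveI := Fact.mk hr
    obtain ⟨P, hP⟩ := Coprime.exists_invariant_sylow r hAF hcop (Or.inl hsolv)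
    have hPC : (P : Subgroup F) ≤ C.subgroupOf F := fun x hx =>
      ⟨x.2, hfix r hr hrq P hP ⟨x, hx, rfl⟩⟩
    exact P.not_dvd_index (hd.trans (index_dvd_of_le hPC))
  obtain ⟨Q, hQ⟩ := Coprime.exists_invariant_sylow q hAF hcop (Or.inl hsolv)
  set R := (Q : Subgroup F).map F.subtype with hR
  have hRF : R ≤ F := map_subtype_le _
  have hCF : C ≤ F := inf_le_left
  have hQidx : R.relIndex F = (Q : Subgroup F).index := by
    rw [relIndex, hR, subgroupOf, comap_map_eq_self_of_injective F.subtype_injective]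
  have hfac : C.relIndex F ∣ C.relIndex R := by
    have h1 : R.relIndex F * (C ⊓ R).relIndex R = C.relIndex F * (C ⊓ R).relIndex C := by
      rw [mul_comm (R.relIndex F), relIndex_mul_relIndex _ _ _ inf_le_right hRF, mul_comm (C.relIndex F),
        relIndex_mul_relIndex _ _ _ inf_le_left hCF]
    rw [inf_relIndex_right] at h1
    have hcq : (C.relIndex F).Coprime (R.relIndex F) := by
      rw [hQidx]
      refine Nat.coprime_of_dvd fun r hr h2 h3 => ?_
      rcases eq_or_ne r q with rfl | hrq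
      · exact Q.not_dvd_index h3
      · exact hidx r hr hrq h2
    exact hcq.dvd_of_dvd_mul_left ⟨_, h1⟩
  let emb := quotientSubgroupOfEmbeddingOfLE C hRF
  have hsurj : Function.Surjective emb := by
    refine ((Nat.bijective_iff_injective_and_card _).mpr ⟨emb.injective,
      le_antisymm (Nat.card_le_card_of_injective _ emb.injective) ?_⟩).2
    exact Nat.le_of_dvd Nat.card_pos hfac
  refine (Q.2.map F.subtype).to_le (commutator_le.mpr fun f hf a ha => ?_)
  obtain ⟨y', hy'⟩ := hsurj (QuotientGroup.mk ⟨f, hf⟩)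
  obtain ⟨y, rfl⟩ := QuotientGroup.mk_surjective y'
  rw [quotientSubgroupOfEmbeddingOfLE_apply_mk, QuotientGroup.eq] at hy'
  have hc : (y : G)⁻¹ * f ∈ C := hy'
  have hfc : Commute a ((y : G)⁻¹ * f) := hc.2 a ha
  have he : f = (y : G) * ((y : G)⁻¹ * f) := by group
  have hy : ⁅(y : G), a⁆ ∈ R :=
    le_normalizer_iff_commutator_le_left.mp hQ (commutator_mem_commutator y.2 ha)
  rw [he, commutatorElement_mul_left_eq_conj_mul,
    commutatorElement_eq_one_iff_mul_comm.mpr hfc.eq.symm, mul_one, mul_inv_cancel, one_mul]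
  exact hy

theorem factor (s : Setup p V H F) {A : Subgroup G} (hA : Point p V H A) : FactorData p V H F A := by
  set Q := ⁅F, A⁆ with hQdef
  set E := Q ⊔ A with hE
  haveI : Fact (factorPrime p).Prime := ⟨factorPrime_prime p⟩
  have hAF := hA.le.trans s.core_norm
  have hQF : Q ≤ F := le_normalizer_iff_commutator_le_left.mp hAF
  have hFQ : F ≤ normalizer (Q : Set G) := normalizer_commutator_ge_left F A
  have hAQ : A ≤ normalizer (Q : Set G) := normalizer_commutator_ge_right F A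
  have hQq : IsPGroup (factorPrime p) Q := qgroup s hA
  have hQV : Q ≤ normalizer (V : Set G) := hQF.trans (s.core_le.trans s.norm)
  have hQf : Q ⊓ centralizer (V : Set G) = ⊥ := inf_centralizer_bot_of s (hQF.trans s.core_le)
  obtain ⟨x, hx, hxA⟩ := exists_mover s hA
  set B := A.map (MulAut.conj x).toMonoidHom with hB
  have hBp := conj_point s hA (s.core_le hx)
  have hBA : B ≤ F ⊔ A := (conj_le_sup s hA hx).trans (sup_le_sup_right hQF A)
  have hBne := conj_ne s hA hx hxA
  have d := core_data s hA hBp hBA hBne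
  have hnp := not_isPGroup_sup s hA hBp hBA hBne
  have P := plane s hA hBp hnp
  set W := ⁅V, A ⊔ B⁆ with hW
  have hsmall := d.small
  -- all conjugates have their module in the plane
  have hQcop : (Nat.card Q).Coprime p := s.core_cop.coprime_dvd_left (card_dvd_of_le hQF)
  have hQO : pCore p Q = ⊥ := by
    rw [← card_eq_one]
    obtain ⟨k, hk⟩ := (Cores.isPGroup_pCore (p := p) (G := Q)).exists_card_eq
    exact Nat.eq_one_of_dvd_coprimes (hQcop.pow_right k)
      (card_subgroup_dvd_card _) (hk ▸ dvd_rfl)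
  have hNQ : ∀ y ∈ F, F ⊓ (A ⊔ A.map (MulAut.conj y).toMonoidHom) ≤ Q := by
    intro y hy n hn
    obtain ⟨q, hq, a, ha, rfl⟩ := (Coprime.mem_sup_of_le_normalizer hAQ).mp
      (sup_le le_sup_right (conj_le_sup s hA hy) hn.2)
    have ha1 : a ∈ A ⊓ F := ⟨ha, (mul_mem_cancel_left (hQF hq)).mp hn.1⟩
    rw [point_inf_core s hA, mem_bot] at ha1
    rw [ha1, mul_one]; exact hq
  haveI : Group.IsNilpotent Q := hQq.isNilpotent
  have hsub : ∀ X : Subgroup G, X ≤ Q → Sub Q X := fun X hX => ⟨hX, isSubnormal_of_nilpotent _⟩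
  obtain ⟨hcA, -⟩ := point_facts s hA.le hA.card hA.full
  have hsame : ∀ y ∈ F, ⁅V, A.map (MulAut.conj y).toMonoidHom⁆ ≤ W := by
    intro y hy
    by_cases hyA : y ∈ centralizer (A : Set G)
    · rw [mem_normalizer_map.mp (centralizer_le_normalizer _ hyA)]
      exact commutator_mono le_rfl le_sup_left
    set C := A.map (MulAut.conj y).toMonoidHom with hC
    have hCp := conj_point s hA (s.core_le hy)
    have hCA : C ≤ F ⊔ A := (conj_le_sup s hA hy).trans (sup_le_sup_right hQF A)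
    have hCne := conj_ne s hA hy hyA
    have d' := core_data s hA hCp hCA hCne
    have P' := plane s hA hCp (not_isPGroup_sup s hA hCp hCA hCne)
    suffices h : ⁅V, A ⊔ C⁆ ≤ W from (commutator_mono le_rfl le_sup_right).trans h
    by_contra hne
    have hne' : ¬ W ≤ ⁅V, A ⊔ C⁆ := fun h => hne
      (eq_of_le_of_card_ge h (by rw [hW, P.card, P'.card])).ge
    obtain ⟨-, hdis⟩ := commuting s.elem Q _ _ hQV hQf hQO (hsub _ (hNQ y hy)) (hsub _ (hNQ x hx))
      d'.irr d.irr (by rw [d'.module, d.module]; exact hne) (by rw [d'.module, d.module]; exact hne')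
      d'.big d.big
    rw [d'.module, d.module] at hdis
    have : ⁅V, A⁆ ≤ ⊥ := hdis ▸ le_inf (commutator_mono le_rfl le_sup_left) (commutator_mono le_rfl le_sup_left)
    rw [le_bot_iff.mp this, card_bot] at hcA
    exact hp.out.ne_one hcA.symm
  have hWV : W ≤ V := le_normalizer_iff_commutator_le_left.mp ((sup_le hA.le hBp.le).trans s.norm)
  have hgen : ∀ (K : Subgroup G), (∀ y ∈ F, A.map (MulAut.conj y).toMonoidHom ≤ K) → E ≤ K := by
    intro K hK
    have hAK : A ≤ K := by
      have := hK 1 (one_mem _)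
      rwa [map_conj_one] at this
    refine sup_le (commutator_le.mpr fun f hf a ha => ?_) hAK
    exact mul_mem (hK f hf ⟨a, ha, rfl⟩) (inv_mem (hAK ha))
  have hconjE : ∀ y ∈ F, A.map (MulAut.conj y).toMonoidHom ≤ E := fun y hy => conj_le_sup s hA hy
  have hEH : E ≤ H := sup_le (hQF.trans s.core_le) hA.le
  have hEW : E ≤ trivialMod V W := by
    refine hgen _ fun y hy => fun g hg => ?_
    have hle := hsame y hy
    refine ⟨GlaubermanReplacement.mem_normalizer_of_conj_mem fun w hw => ?_,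
      fun v hv => hle (commutator_mem_commutator hv hg)⟩
    have : g * w * g⁻¹ = ⁅w, g⁆⁻¹ * w := by simp only [commutatorElement_def]; group
    rw [this]
    exact mul_mem (inv_mem (hle (commutator_mem_commutator (hWV hw) hg))) hw
  have hBE : B ≤ E := conjE_aux hconjE hx
  have hVE : ⁅V, E⁆ = W := le_antisymm (commutator_le.mpr fun v hv g hg => (hEW hg).2 v hv)
    (commutator_mono le_rfl (sup_le le_sup_right hBE))
  have hmodQ : ⁅V, Q⁆ = W := le_antisymm ((commutator_mono le_rfl le_sup_left).trans hVE.le)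
    (hW ▸ d.module ▸ commutator_mono le_rfl (hNQ x hx))
  haveI : IsMulCommutative V := s.elem.1
  have hcV : (Nat.card Q).Coprime (Nat.card V) := by
    obtain ⟨i, hi⟩ := (ThompsonSubgroup.IsElementaryAbelian.isPGroup s.elem).exists_card_eq
    rw [hi]; exact hQcop.pow_right i
  have hdisQ : (V ⊓ centralizer (Q : Set G)) ⊓ W = ⊥ :=
    hmodQ ▸ Coprime.inf_centralizer_inf_commutator hQV hcV
  have hsplitQ : W ⊔ (V ⊓ centralizer (Q : Set G)) = V :=
    hmodQ ▸ Coprime.commutator_sup_inf_centralizer hQV hcV (Or.inr (Coprime.isSolvable_of_isMulCommutative V))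
  have hfixed : V ⊓ centralizer (E : Set G) = V ⊓ centralizer (Q : Set G) := by
    refine le_antisymm (inf_le_inf_left _ (centralizer_le (le_sup_left : Q ≤ E))) (le_inf inf_le_left ?_)
    rw [le_centralizer_iff]
    refine sup_le (le_centralizer_iff.mp inf_le_right) (le_centralizer_iff_commutator.mpr (le_bot_iff.mp ?_))
    rw [← hdisQ]
    refine le_inf ?_ ((commutator_mono inf_le_left le_sup_right).trans hVE.le)
    exact le_normalizer_iff_commutator_le_left.mp (le_normalizer_inf (hA.le.trans s.norm)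
      (le_normalizer_centralizer hAQ))
  have hfaith : E ⊓ centralizer (W : Set G) = ⊥ := by
    rw [eq_bot_iff, ← inf_centralizer_bot_of s hEH]
    rintro g ⟨hg, hgW⟩
    refine ⟨hg, fun v hv => ?_⟩
    have hle : V ≤ centralizer ({g} : Set G) := by
      rw [← hsplitQ, ← hfixed]
      exact sup_le (fun w hw => mem_centralizer_singleton_iff.mpr (hgW w hw))
        (fun c hc => mem_centralizer_singleton_iff.mpr (hc.2 g hg).symm)
    exact mem_centralizer_singleton_iff.mp (hle hv)
  obtain ⟨e₁, e₂, hbas, a, b, t, hza, hzb, ht, hactA, hactB⟩ := plane_coords s hA hBp hnp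
  have ha : a ∈ A := hza ▸ mem_zpowers a
  have hb : b ∈ B := hzb.le (mem_zpowers b)
  have hFW : F ≤ normalizer (W : Set G) := by
    intro f hf
    rw [← hVE]
    refine conj_mem_commutator (s.norm (s.core_le hf))
      (GlaubermanReplacement.mem_normalizer_of_conj_mem fun g hg => ?_)
    have hle : E.map (MulAut.conj f).toMonoidHom ≤ E := by
      rw [map_le_iff_le_comap]
      refine hgen _ fun y hy => ?_
      rw [← map_le_iff_le_comap, map_conj_comp]
      exact hconjE _ (mul_mem hf hy)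
    exact hle ⟨g, hg, rfl⟩
  have hasp : a ∈ Coord.special hbas := ⟨Classical.GL2.uniSL 1, hactA⟩
  have hAsp : A ≤ Coord.special hbas := hza.symm.trans_le (zpowers_le.mpr hasp)
  have hsp : E ≤ Coord.special hbas := by
    refine hgen _ fun y hy => ?_
    rintro _ ⟨z, hz, rfl⟩
    exact Coord.conj_special hbas (hFW hy) (hAsp hz)
  obtain ⟨e, he⟩ := Coord.iso_of_actions hbas hsp hfaith (mem_sup_right ha) (hBE hb) ht hactA hactB
  refine ⟨hsmall, hQq, fun h3 => ?_, ⟨e⟩, ?_, ?_, ?_, ?_, hfixed, by rw [hmodQ, hVE], ?_, ?_, ?_⟩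
  · obtain ⟨m, hm, n, hn, hmn⟩ := d.noncomm h3
    intro hcomm
    exact hmn (congrArg Subtype.val (hcomm.is_comm.comm ⟨m, hNQ x hx hm⟩ ⟨n, hNQ x hx hn⟩))
  · rw [hVE, hW, P.card]
  · rw [hVE]; exact hfaith
  · rw [hVE, hfixed, inf_comm]; exact hdisQ
  · rw [hVE, hfixed]; exact hsplitQ
  · intro U hU hn
    rw [hmodQ] at hU ⊢
    have := d.irr U (by rw [d.module]; exact hU) ((hNQ x hx).trans hn)
    rwa [d.module] at this
  · exact lt_of_lt_of_le d.big (Nat.le_of_dvd Nat.card_pos (card_dvd_of_le (hNQ x hx)))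
  · have hb' : Coord.Basis p ⁅V, E⁆ e₁ e₂ := hVE.symm ▸ hbas
    refine ⟨e₁, e₂, hb', e, fun g hg => ?_, he⟩
    obtain ⟨M, hM⟩ := hsp hg
    exact ⟨M, hM⟩
where
  conjE_aux {A E : Subgroup G} {x : G} (h : ∀ y ∈ F, A.map (MulAut.conj y).toMonoidHom ≤ E)
      (hx : x ∈ F) : A.map (MulAut.conj x).toMonoidHom ≤ E := h x hx

end Cfsg.Agent.PLocal.Offender
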