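import Mathlib
import Cfsg.Agent.Lib.PLocal.Offender.Factor

/-!
The factors of the offenders of order `p` are the factors of a direct decomposition.
-/

set_option linter.all false
set_option autoImplicit false

namespace Cfsg.Agent.PLocal.Offender

open Subgroup Cfsg
open scoped commutatorElement MatrixGroups

variable {G : Type*} [Group G] [Finite G] {p : ℕ} [hp : Fact p.Prime] {V H F : Subgroup G}

/-- The group attached to an offender. -/
def factorGroup (F A : Subgroup G) : Subgroup G := ⁅F, A⁆ ⊔ A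

theorem factorGroup_le (s : Setup p V H F) {A : Subgroup G} (hA : Point p V H A) :
    factorGroup F A ≤ H :=
  sup_le ((le_normalizer_iff_commutator_le_left.mp (hA.le.trans s.core_norm)).trans s.core_le) hA.le

theorem centralizer_sup_eq (X Y : Subgroup G) :
    centralizer ((X ⊔ Y : Subgroup G) : Set G) = centralizer (X : Set G) ⊓ centralizer (Y : Set G) := by
  apply le_antisymm
  · exact le_inf (centralizer_le (le_sup_left : X ≤ X ⊔ Y)) (centralizer_le (le_sup_right : Y ≤ X ⊔ Y))
  · rw [le_centralizer_iff]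
    exact sup_le (le_centralizer_iff.mp inf_le_left) (le_centralizer_iff.mp inf_le_right)

/-- An element of order `p` normalizing a plane acts by a matrix of determinant one. -/
theorem mem_special_of_pow {W : Subgroup G} {e₁ e₂ : G} (h : Coord.Basis p W e₁ e₂) {g : G}
    (hg : g ∈ normalizer (W : Set G)) (hgp : g ^ p = 1) : g ∈ Coord.special h := by
  obtain ⟨M, hM⟩ := Coord.exists_acts h hg
  have hpow : ∀ n : ℕ, Coord.Acts e₁ e₂ (g ^ n) (M ^ n) := by
    intro n
    induction n with
    | zero => rw [pow_zero, pow_zero]; exact Coord.acts_one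
    | succ n ih => rw [pow_succ, pow_succ]; exact ih.mul hM
  have h1 : M ^ p = 1 := (hpow p).unique h (by rw [hgp]; exact Coord.acts_one)
  refine ⟨⟨M, ?_⟩, hM⟩
  rw [← ZMod.pow_card M.det, ← Matrix.det_pow, h1, Matrix.det_one]

theorem module_eq_commutator (s : Setup p V H F) {A : Subgroup G} (hA : Point p V H A) :
    ⁅V, ⁅F, A⁆⁆ = ⁅V, factorGroup F A⁆ := (factor s hA).module

theorem core_le_normalizer_module (s : Setup p V H F) {A : Subgroup G} (hA : Point p V H A) :
    F ≤ normalizer ((⁅V, factorGroup F A⁆ : Subgroup G) : Set G) := fun f hf => by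
  rw [← module_eq_commutator s hA]
  exact conj_mem_commutator (s.norm (s.core_le hf)) (normalizer_commutator_ge_left F A hf)

theorem separate (s : Setup p V H F) {A B : Subgroup G} (hA : Point p V H A) (hB : Point p V H B)
    (hne : ⁅V, factorGroup F A⁆ ≠ ⁅V, factorGroup F B⁆) :
    ⁅V, factorGroup F A⁆ ⊓ ⁅V, factorGroup F B⁆ = ⊥ ∧
      ⁅V, factorGroup F A⁆ ≤ V ⊓ centralizer (factorGroup F B : Set G) := by
  have dA := factor s hA
  have dB := factor s hB
  have hFV : F ≤ normalizer (V : Set G) := s.core_le.trans s.norm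
  have hO : pCore p F = ⊥ := by
    rw [← card_eq_one]
    obtain ⟨k, hk⟩ := (Cores.isPGroup_pCore (p := p) (G := F)).exists_card_eq
    exact Nat.eq_one_of_dvd_coprimes (s.core_cop.pow_right k)
      (card_subgroup_dvd_card _) (hk ▸ dvd_rfl)
  have hQ : ∀ X : Subgroup G, Point p V H X → Sub F ⁅F, X⁆ := fun X hX =>
    Sub.of_normalizer (le_normalizer_iff_commutator_le_left.mp (hX.le.trans s.core_norm))
      (normalizer_commutator_ge_left F X)
  have hc : Nat.card ↥⁅V, factorGroup F A⁆ = Nat.card ↥⁅V, factorGroup F B⁆ := by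
    rw [factorGroup, factorGroup, dA.card, dB.card]
  obtain ⟨hcm, hdis⟩ := commuting s.elem F _ _ hFV (inf_centralizer_bot_of s s.core_le) hO (hQ A hA)
    (hQ B hB) dA.irr dB.irr
    (by rw [module_eq_commutator s hA, module_eq_commutator s hB]
        exact fun h => hne (eq_of_le_of_card_ge h hc.ge))
    (by rw [module_eq_commutator s hA, module_eq_commutator s hB]
        exact fun h => hne (eq_of_le_of_card_ge h hc.le).symm)
    dA.big dB.big
  rw [module_eq_commutator s hA, module_eq_commutator s hB] at hdis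
  refine ⟨hdis, ?_⟩
  have hWV : ⁅V, factorGroup F A⁆ ≤ V :=
    le_normalizer_iff_commutator_le_left.mp ((factorGroup_le s hA).trans s.norm)
  refine le_trans ?_ dB.fixed.ge
  refine le_inf hWV ?_
  rw [le_centralizer_iff, le_centralizer_iff_commutator]
  refine le_bot_iff.mp (hdis ▸ le_inf (le_normalizer_iff_commutator_le_left.mp ?_) ?_)
  · exact (le_normalizer_iff_commutator_le_left.mp (hB.le.trans s.core_norm)).trans
      (core_le_normalizer_module s hA)
  · rw [← module_eq_commutator s hB]
    exact commutator_mono hWV le_rfl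

theorem commute_factors (s : Setup p V H F) {A B : Subgroup G} (hA : Point p V H A) (hB : Point p V H B)
    (hne : ⁅V, factorGroup F A⁆ ≠ ⁅V, factorGroup F B⁆) :
    ⁅factorGroup F A, factorGroup F B⁆ = ⊥ := by
  set X := factorGroup F A
  set Y := factorGroup F B
  have h1 : ⁅⁅V, X⁆, Y⁆ = ⊥ := le_centralizer_iff_commutator.mp
    (le_centralizer_iff.mp ((separate s hA hB hne).2.trans inf_le_right))
  have h2 : ⁅⁅V, Y⁆, X⁆ = ⊥ := le_centralizer_iff_commutator.mp
    (le_centralizer_iff.mp ((separate s hB hA (Ne.symm hne)).2.trans inf_le_right))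
  have h3 : ⁅⁅X, Y⁆, V⁆ = ⊥ := commutator_commutator_eq_bot_of_rotate
    (by rw [commutator_comm Y V]; exact h2) h1
  refine le_bot_iff.mp (s.faithful ▸ le_inf ?_ ?_)
  · exact (commutator_mono (factorGroup_le s hA) (factorGroup_le s hB)).trans
      (le_normalizer_iff_commutator_le_left.mp le_normalizer)
  · exact le_centralizer_iff_commutator.mpr (by rw [commutator_comm]; exact h3)

theorem fixed_le_of_eq (s : Setup p V H F) {A B : Subgroup G} (hA : Point p V H A) (hB : Point p V H B)
    (heq : ⁅V, factorGroup F A⁆ = ⁅V, factorGroup F B⁆) :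
    V ⊓ centralizer (factorGroup F A : Set G) ≤ V ⊓ centralizer (factorGroup F B : Set G) := by
  have dA := factor s hA
  have dB := factor s hB
  have hQF : ⁅F, B⁆ ≤ F := le_normalizer_iff_commutator_le_left.mp (hB.le.trans s.core_norm)
  have hn : ⁅F, B⁆ ≤ normalizer ((V ⊓ centralizer ((⁅F, A⁆ : Subgroup G) : Set G) : Subgroup G) : Set G) :=
    hQF.trans (le_normalizer_inf (s.core_le.trans s.norm)
      (le_normalizer_centralizer (normalizer_commutator_ge_left F A)))
  refine le_trans ?_ dB.fixed.ge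
  refine le_inf inf_le_left ?_
  rw [le_centralizer_iff, le_centralizer_iff_commutator]
  have hdis : ⁅V, factorGroup F A⁆ ⊓ (V ⊓ centralizer (factorGroup F A : Set G)) = ⊥ := dA.disj
  refine le_bot_iff.mp (hdis ▸ le_inf ?_ ?_)
  · rw [heq, ← module_eq_commutator s hB]
    exact commutator_mono inf_le_left le_rfl
  · rw [show V ⊓ centralizer (factorGroup F A : Set G) = V ⊓ centralizer ((⁅F, A⁆ : Subgroup G) : Set G) from dA.fixed]
    exact le_normalizer_iff_commutator_le_left.mp hn

theorem factor_le_of_eq (s : Setup p V H F) {A B : Subgroup G} (hA : Point p V H A) (hB : Point p V H B)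
    (heq : ⁅V, factorGroup F A⁆ = ⁅V, factorGroup F B⁆) : factorGroup F B ≤ factorGroup F A := by
  have dA := factor s hA
  obtain ⟨e₁, e₂, hb, e, -, he⟩ := dA.basis
  have hBW : B ≤ normalizer ((⁅V, factorGroup F A⁆ : Subgroup G) : Set G) := by
    rw [heq]; exact le_sup_right.trans (normalizer_commutator_ge_right V (factorGroup F B))
  have hBsp : B ≤ Coord.special hb := fun b hb' => mem_special_of_pow hb (hBW hb') (hB.elem.2 b hb')
  have hsp : factorGroup F B ≤ Coord.special hb := by
    refine sup_le (commutator_le.mpr fun f hf b hb' => ?_) hBsp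
    exact mul_mem (Coord.conj_special hb (core_le_normalizer_module s hA hf) (hBsp hb'))
      (inv_mem (hBsp hb'))
  intro g hg
  obtain ⟨M, hM⟩ := hsp hg
  set d := e.symm M with hd
  have hMd : Coord.Acts e₁ e₂ (d : G) (M : Matrix (Fin 2) (Fin 2) (ZMod p)) := by
    have := he d
    rwa [hd, MulEquiv.apply_symm_apply] at this
  have hkey : (d : G)⁻¹ * g ∈ H ⊓ centralizer (V : Set G) := by
    refine mem_inf.mpr ⟨mul_mem (inv_mem (factorGroup_le s hA d.2)) (factorGroup_le s hB hg), fun v hv => ?_⟩
    have hle : V ≤ centralizer ({(d : G)⁻¹ * g} : Set G) := by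
      rw [← dA.split]
      refine sup_le (fun w hw => mem_centralizer_singleton_iff.mpr (Eq.symm ?_))
        (fun c hc => mem_centralizer_singleton_iff.mpr (Eq.symm ?_))
      · obtain ⟨x, rfl⟩ := Coord.exists_ι hb hw
        have h1 : g * Coord.ι e₁ e₂ x * g⁻¹ = (d : G) * Coord.ι e₁ e₂ x * (d : G)⁻¹ := by
          rw [hM x, hMd x]
        calc (d : G)⁻¹ * g * Coord.ι e₁ e₂ x
            = (d : G)⁻¹ * (g * Coord.ι e₁ e₂ x * g⁻¹) * g := by group
          _ = _ := by rw [h1]; group
      · have hc1 := hc.2 _ d.2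
        have hc2 := (fixed_le_of_eq s hA hB heq hc).2 _ hg
        calc (d : G)⁻¹ * g * c = (d : G)⁻¹ * (g * c) := mul_assoc _ _ _
          _ = (d : G)⁻¹ * (c * g) := by rw [hc2]
          _ = ((d : G)⁻¹ * c) * g := (mul_assoc _ _ _).symm
          _ = c * (d : G)⁻¹ * g := by rw [((show Commute (d : G) c from hc1).inv_left).eq]
          _ = _ := mul_assoc _ _ _
    exact mem_centralizer_singleton_iff.mp (hle hv)
  rw [s.faithful, mem_bot, inv_mul_eq_one] at hkey
  exact hkey ▸ d.2

theorem factor_eq_of_eq (s : Setup p V H F) {A B : Subgroup G} (hA : Point p V H A) (hB : Point p V H B)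
    (heq : ⁅V, factorGroup F A⁆ = ⁅V, factorGroup F B⁆) : factorGroup F B = factorGroup F A :=
  le_antisymm (factor_le_of_eq s hA hB heq) (factor_le_of_eq s hB hA heq.symm)

theorem le_of_points (s : Setup p V H F)
    (hgen : H = ⨆ A : {A : Subgroup G // A ≤ H ∧ IsBestOffenderOn p V A}, (A : Subgroup G))
    {K : Subgroup G} (h : ∀ B, Point p V H B → B ≤ K) : H ≤ K := by
  rw [hgen]
  refine iSup_le fun A => ?_
  obtain ⟨he, hF⟩ := (isBestOffender_iff s A.2.1).mp A.2.2
  obtain ⟨k, B, hB, -, hsup⟩ := exists_decomposition s A.2.1 he hF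
  rw [← hsup]
  exact iSup_le fun i => h _ ⟨(hB i).1.trans A.2.1, (hB i).2.1, (hB i).2.2⟩

/-- The group `H` splits off each factor. -/
theorem direct_factor (s : Setup p V H F)
    (hgen : H = ⨆ A : {A : Subgroup G // A ≤ H ∧ IsBestOffenderOn p V A}, (A : Subgroup G))
    {A : Subgroup G} (hA : Point p V H A) :
    let E := factorGroup F A
    let D := H ⊓ centralizer ((⁅V, E⁆ : Subgroup G) : Set G)
    H ≤ normalizer (E : Set G) ∧ ⁅E, D⁆ = ⊥ ∧ E ⊓ D = ⊥ ∧ E ⊔ D = H ∧
      ⁅V, D⁆ ≤ V ⊓ centralizer (E : Set G) := by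
  intro E D
  have dA := factor s hA
  have hEH : E ≤ H := factorGroup_le s hA
  have hpts : ∀ B, Point p V H B → B ≤ E ∨ (B ≤ D ∧ B ≤ centralizer (E : Set G)) := by
    intro B hB
    by_cases heq : ⁅V, factorGroup F A⁆ = ⁅V, factorGroup F B⁆
    · exact Or.inl (le_sup_right.trans (factor_le_of_eq s hA hB heq))
    · refine Or.inr ⟨le_inf hB.le (le_sup_right.trans (le_centralizer_iff.mp
        ((separate s hA hB heq).2.trans inf_le_right))), ?_⟩
      exact le_sup_right.trans (le_centralizer_iff_commutator.mpr (commute_factors s hA hB heq))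
  have hnorm : H ≤ normalizer (E : Set G) := le_of_points s hgen fun B hB => by
    rcases hpts B hB with h | h
    · exact h.trans le_normalizer
    · exact h.2.trans (centralizer_le_normalizer _)
  have hWn : E ≤ normalizer ((⁅V, E⁆ : Subgroup G) : Set G) := normalizer_commutator_ge_right V E
  have hED : E ⊓ D = ⊥ := le_bot_iff.mp (dA.faithful ▸ inf_le_inf_left _ inf_le_right)
  have hcomm : ⁅E, D⁆ = ⊥ := by
    refine le_bot_iff.mp (hED ▸ le_inf ?_ ?_)
    · exact le_normalizer_iff_commutator_le_left.mp (inf_le_left.trans hnorm)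
    · rw [commutator_comm]
      exact le_normalizer_iff_commutator_le_left.mp
        (le_normalizer_inf (hEH.trans le_normalizer) (le_normalizer_centralizer hWn))
  refine ⟨hnorm, hcomm, hED, le_antisymm (sup_le hEH inf_le_left) (le_of_points s hgen fun B hB => ?_), ?_⟩
  · rcases hpts B hB with h | h
    · exact h.trans le_sup_left
    · exact h.1.trans le_sup_right
  rw [commutator_le]
  intro v hv d hd
  have hVc := (ThompsonSubgroup.isElementaryAbelian_iff.mp s.elem).1
  have hvs : v ∈ ⁅V, E⁆ ⊔ (V ⊓ centralizer (E : Set G)) := dA.split.ge hv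
  obtain ⟨w, hw, c, hc, rfl⟩ := (Coprime.mem_sup_of_le_normalizer (N := ⁅V, E⁆)
    (H := V ⊓ centralizer (E : Set G)) (fun x hx => centralizer_le_normalizer _ fun y hy =>
      hVc y (le_normalizer_iff_commutator_le_left.mp (hEH.trans s.norm) hy) x hx.1)).mp hvs
  have hdC : d ∈ centralizer (E : Set G) := (le_centralizer_iff_commutator.mpr hcomm) hd
  have hdn : d ∈ normalizer ((V ⊓ centralizer (E : Set G) : Subgroup G) : Set G) :=
    le_normalizer_inf (inf_le_left.trans s.norm)
      (le_normalizer_centralizer (inf_le_left.trans hnorm)) hd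
  have hdw : d * w = w * d := (hd.2 w hw).symm
  have e1 : ⁅w * c, d⁆ = w * (c * (d * c⁻¹ * d⁻¹)) * w⁻¹ := by
    calc ⁅w * c, d⁆ = w * c * (d * c⁻¹ * d⁻¹) * (d * w⁻¹ * d⁻¹) := by
          simp only [commutatorElement_def]; group
      _ = w * c * (d * c⁻¹ * d⁻¹) * w⁻¹ := by
          rw [((show Commute d w from hdw).inv_right).eq, mul_inv_cancel_right]
      _ = _ := by group
  have hin : c * (d * c⁻¹ * d⁻¹) ∈ V ⊓ centralizer (E : Set G) :=
    mul_mem hc ((mem_normalizer_iff.mp hdn _).mp (inv_mem hc))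
  rw [e1, hVc w (le_normalizer_iff_commutator_le_left.mp (hEH.trans s.norm) hw) _ hin.1,
    mul_inv_cancel_right]
  exact hin

/-- A finite family of distinct factors splits `V`. -/
theorem split_finset (s : Setup p V H F) {ι : Type*} [DecidableEq ι] (E : ι → Subgroup G)
    (hE : ∀ i, ∃ A, Point p V H A ∧ E i = factorGroup F A) (hinj : Function.Injective E)
    (t : Finset ι) : t.sup (fun i => ⁅V, E i⁆) ⊔ (V ⊓ centralizer ((t.sup E : Subgroup G) : Set G)) = V := by
  induction t using Finset.induction with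
  | empty => rw [Finset.sup_empty, Finset.sup_empty, inf_centralizer_bot, bot_sup_eq]
  | @insert i t hi ih =>
    refine le_antisymm (sup_le (Finset.sup_le fun j _ => ?_) inf_le_left) ?_
    · obtain ⟨B, hB, hj⟩ := hE j
      rw [hj]
      exact le_normalizer_iff_commutator_le_left.mp ((factorGroup_le s hB).trans s.norm)
    conv_lhs => rw [← ih]
    refine sup_le (le_trans (Finset.sup_mono (Finset.subset_insert i t)) le_sup_left) ?_
    obtain ⟨A, hA, hiA⟩ := hE i
    have dA := factor s hA
    have hVc := (ThompsonSubgroup.isElementaryAbelian_iff.mp s.elem).1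
    have hWV : ⁅V, E i⁆ ≤ V := by
      rw [hiA]; exact le_normalizer_iff_commutator_le_left.mp ((factorGroup_le s hA).trans s.norm)
    intro v hv
    have hvs : v ∈ ⁅V, E i⁆ ⊔ (V ⊓ centralizer (E i : Set G)) := by
      rw [hiA]; exact dA.split.ge hv.1
    obtain ⟨w, hw, c, hc, rfl⟩ := (Coprime.mem_sup_of_le_normalizer (N := ⁅V, E i⁆)
      (H := V ⊓ centralizer (E i : Set G)) (fun x hx => centralizer_le_normalizer _ fun y hy =>
        hVc y (hWV hy) x hx.1)).mp hvs
    have hwt : w ∈ centralizer ((t.sup E : Subgroup G) : Set G) := by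
      have hle : t.sup E ≤ centralizer ({w} : Set G) := Finset.sup_le fun j hj => by
        obtain ⟨B, hB, hjB⟩ := hE j
        have hne : ⁅V, factorGroup F A⁆ ≠ ⁅V, factorGroup F B⁆ := fun h => by
          have := hinj (a₁ := j) (a₂ := i) (by rw [hjB, hiA, factor_eq_of_eq s hA hB h])
          exact hi (this ▸ hj)
        intro x hx
        rw [hjB] at hx
        exact mem_centralizer_singleton_iff.mpr (((separate s hA hB hne).2 (hiA ▸ hw)).2 x hx)
      exact fun x hx => mem_centralizer_singleton_iff.mp (hle hx)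
    refine mul_mem (mem_sup_left ((Finset.le_sup (f := fun i => ⁅V, E i⁆) (Finset.mem_insert_self i t)) hw))
      (mem_sup_right (mem_inf.mpr ⟨hc.1, ?_⟩))
    rw [Finset.sup_insert, centralizer_sup_eq]
    exact ⟨hc.2, (mul_mem_cancel_left hwt).mp hv.2⟩

end Cfsg.Agent.PLocal.Offender
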