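import Mathlib
import Cfsg.Agent.Lib.PLocal.Offender.Structure

/-!
A coprime group of operators on a group generated by offenders: fixed points cover every factor.
-/

set_option linter.all false
set_option autoImplicit false

namespace Cfsg.Agent.PLocal.Offender

open Subgroup Cfsg
open scoped commutatorElement MatrixGroups IsMulCommutative

variable {G : Type*} [Group G] [Finite G] {p : ℕ} [hp : Fact p.Prime] {V H F : Subgroup G}

theorem map_factorGroup {t : G} (hF : t ∈ normalizer (F : Set G)) (A : Subgroup G) :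
    (factorGroup F A).map (MulAut.conj t).toMonoidHom = factorGroup F (A.map (MulAut.conj t).toMonoidHom) := by
  rw [factorGroup, factorGroup, Subgroup.map_sup, map_commutator, mem_normalizer_map.mp hF]

theorem map_module {t : G} (hV : t ∈ normalizer (V : Set G)) (hF : t ∈ normalizer (F : Set G)) (A : Subgroup G) :
    (⁅V, factorGroup F A⁆).map (MulAut.conj t).toMonoidHom =
      ⁅V, factorGroup F (A.map (MulAut.conj t).toMonoidHom)⁆ := by
  rw [← conj_commutator hV, map_factorGroup hF]

/-- The order of the group of operators is prime to six. -/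
theorem prime_ne_of_not_dvd (s : Setup p V H F) {A : Subgroup G} (hA : Point p V H A) {q : ℕ}
    (hq : q.Prime) (hqH : ¬ q ∣ Nat.card H) : q ≠ 2 ∧ q ≠ 3 := by
  have d := factor s hA
  haveI : Fact (factorPrime p).Prime := ⟨factorPrime_prime p⟩
  have hp' : p ∣ Nat.card H := hA.card ▸ card_dvd_of_le hA.le
  have hf' : factorPrime p ∣ Nat.card H := by
    obtain ⟨k, hk⟩ := d.qgroup.exists_card_eq
    have hle : ⁅F, A⁆ ≤ H := le_sup_left.trans (factorGroup_le s hA)
    refine (dvd_pow_self _ (fun h => ?_)).trans (hk ▸ card_dvd_of_le hle)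
    have := d.big
    rw [hk, h, pow_zero] at this
    omega
  rcases d.small with rfl | rfl
  · exact ⟨fun h => hqH (h ▸ hp'), fun h => hqH (h ▸ (by simpa [factorPrime] using hf'))⟩
  · exact ⟨fun h => hqH (h ▸ (by simpa [factorPrime] using hf')), fun h => hqH (h ▸ hp')⟩

/-- An element of order prime to six normalizing a factor centralizes it and its plane. -/
theorem stab_trivial (s : Setup p V H F) {A : Subgroup G} (hA : Point p V H A) {t : G}
    (htV : t ∈ normalizer (V : Set G)) (htE : t ∈ normalizer (factorGroup F A : Set G)) {q : ℕ}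
    (hq : q.Prime) (h2 : q ≠ 2) (h3 : q ≠ 3) (htq : t ^ q = 1) :
    (∀ w ∈ ⁅V, factorGroup F A⁆, t * w = w * t) ∧ ∀ e ∈ factorGroup F A, t * e = e * t := by
  have d := factor s hA
  obtain ⟨e₁, e₂, hb, -⟩ := d.basis
  have htW : t ∈ normalizer ((⁅V, factorGroup F A⁆ : Subgroup G) : Set G) := conj_mem_commutator htV htE
  obtain ⟨M, hM⟩ := Coord.exists_acts hb htW
  have hpow : ∀ n : ℕ, Coord.Acts e₁ e₂ (t ^ n) (M ^ n) := by
    intro n
    induction n with
    | zero => rw [pow_zero, pow_zero]; exact Coord.acts_one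
    | succ n ih => rw [pow_succ, pow_succ]; exact ih.mul hM
  have hMq : M ^ q = 1 := (hpow q).unique hb (by rw [htq]; exact Coord.acts_one)
  set u : GL (Fin 2) (ZMod p) := Units.ofPowEqOne M q hMq hq.ne_zero with hu
  have huq : u ^ q = 1 := Units.ext (by rw [Units.val_pow_eq_pow_val, hu, Units.val_ofPowEqOne, hMq]; rfl)
  have hcard : Nat.card (GL (Fin 2) (ZMod p)) ∣ 48 := by
    rw [Matrix.card_GL_field, ZMod.card, Fin.prod_univ_two]
    rcases d.small with rfl | rfl <;> norm_num
  have hu1 : u = 1 := by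
    refine orderOf_eq_one_iff.mp (Nat.eq_one_of_dvd_coprimes (a := q) (b := 48) ?_
      (orderOf_dvd_of_pow_eq_one huq) ((orderOf_dvd_natCard u).trans hcard))
    refine (Nat.Prime.coprime_iff_not_dvd hq).mpr fun h => ?_
    have h48 : q ∣ 2 ^ 4 * 3 ^ 1 := by norm_num; exact h
    rcases (Nat.Prime.dvd_mul hq).mp h48 with h' | h'
    · exact h2 ((Nat.prime_dvd_prime_iff_eq hq Nat.prime_two).mp (hq.dvd_of_dvd_pow h'))
    · exact h3 ((Nat.prime_dvd_prime_iff_eq hq Nat.prime_three).mp (hq.dvd_of_dvd_pow h'))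
  have hM1 : M = 1 := congrArg Units.val hu1
  have hw : ∀ w ∈ ⁅V, factorGroup F A⁆, t * w = w * t := by
    intro w hw
    obtain ⟨x, rfl⟩ := Coord.exists_ι hb hw
    have h := hM x
    rw [hM1, Matrix.one_mulVec] at h
    exact mul_inv_eq_iff_eq_mul.mp h
  refine ⟨hw, fun e he => ?_⟩
  have he' : t * e * t⁻¹ ∈ factorGroup F A := (mem_normalizer_iff.mp htE e).mp he
  have hkey : e⁻¹ * (t * e * t⁻¹) ∈ factorGroup F A ⊓ centralizer ((⁅V, factorGroup F A⁆ : Subgroup G) : Set G) := by
    refine mem_inf.mpr ⟨mul_mem (inv_mem he) he', fun w hw' => ?_⟩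
    have h1 : t⁻¹ * w * t = w := by rw [mul_assoc, ← hw w hw', inv_mul_cancel_left]
    have hew : e * w * e⁻¹ ∈ ⁅V, factorGroup F A⁆ :=
      (mem_normalizer_iff.mp (normalizer_commutator_ge_right V _ he) w).mp hw'
    have h2 : (t * e * t⁻¹) * w * (t * e * t⁻¹)⁻¹ = e * w * e⁻¹ := by
      calc (t * e * t⁻¹) * w * (t * e * t⁻¹)⁻¹ = t * (e * (t⁻¹ * w * t) * e⁻¹) * t⁻¹ := by group
        _ = t * (e * w * e⁻¹) * t⁻¹ := by rw [h1]
        _ = _ := by rw [hw _ hew, mul_inv_cancel_right]
    calc w * (e⁻¹ * (t * e * t⁻¹)) = e⁻¹ * (e * w * e⁻¹) * (t * e * t⁻¹) := by group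
      _ = e⁻¹ * ((t * e * t⁻¹) * w * (t * e * t⁻¹)⁻¹) * (t * e * t⁻¹) := by rw [h2]
      _ = e⁻¹ * (t * e * t⁻¹) * w := by group
  have h0 : factorGroup F A ⊓ centralizer ((⁅V, factorGroup F A⁆ : Subgroup G) : Set G) = ⊥ := d.faithful
  rw [h0, mem_bot, inv_mul_eq_one] at hkey
  exact (mul_inv_eq_iff_eq_mul.mp hkey.symm)

/-- A group of operators of prime exponent normalizing `V`, `H` and `F`. -/
structure Operators {X : Type*} [Group X] (q : ℕ) (V H F : Subgroup G) (τ : X →* G) : Prop where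
  prime : q.Prime
  ne_two : q ≠ 2
  ne_three : q ≠ 3
  exp : ∀ x, τ x ^ q = 1
  norm_V : ∀ x, τ x ∈ normalizer (V : Set G)
  norm_H : ∀ x, τ x ∈ normalizer (H : Set G)
  norm_F : ∀ x, τ x ∈ normalizer (F : Set G)

variable {X : Type*} [Group X] [Finite X] {q : ℕ} {τ : X →* G}

/-- Either an operator fixes a factor pointwise or the two factors commute. -/
theorem conj_cases (s : Setup p V H F) (o : Operators q V H F τ) {A : Subgroup G} (hA : Point p V H A)
    (x : X) :
    ((∀ w ∈ ⁅V, factorGroup F A⁆, τ x * w = w * τ x) ∧ ∀ e ∈ factorGroup F A, τ x * e = e * τ x) ∨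
      ((factorGroup F A).map (MulAut.conj (τ x)).toMonoidHom ≤
          centralizer (factorGroup F A : Set G) ⊓ centralizer ((⁅V, factorGroup F A⁆ : Subgroup G) : Set G) ∧
        (⁅V, factorGroup F A⁆).map (MulAut.conj (τ x)).toMonoidHom ≤
          V ⊓ centralizer (factorGroup F A : Set G)) := by
  set B := A.map (MulAut.conj (τ x)).toMonoidHom with hB
  have hBp : Point p V H B := conj_point_of_normalizes hA (o.norm_H x) (o.norm_V x)
  by_cases heq : ⁅V, factorGroup F A⁆ = ⁅V, factorGroup F B⁆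
  · refine Or.inl (stab_trivial s hA (o.norm_V x) ?_ o.prime o.ne_two o.ne_three (o.exp x))
    rw [mem_normalizer_map, map_factorGroup (o.norm_F x)]
    exact factor_eq_of_eq s hA hBp heq
  · refine Or.inr ⟨le_inf ?_ ?_, ?_⟩
    · rw [map_factorGroup (o.norm_F x)]
      exact le_centralizer_iff_commutator.mpr (commute_factors s hA hBp heq)
    · rw [map_factorGroup (o.norm_F x)]
      exact le_centralizer_iff.mp ((separate s hA hBp heq).2.trans inf_le_right)
    · rw [map_module (o.norm_V x) (o.norm_F x)]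
      exact (separate s hBp hA (Ne.symm heq)).2

/-- The number of operators fixing a factor is prime to the order of its groups. -/
theorem card_stab_coprime (o : Operators q V H F τ) (hX : IsPGroup q X) (P : Subgroup X) {n : ℕ}
    (hn : ¬ q ∣ n) : n.Coprime (Nat.card P) := by
  haveI := Fact.mk o.prime
  obtain ⟨k, hk⟩ := (hX.to_subgroup P).exists_card_eq
  rw [hk]
  exact (((Nat.Prime.coprime_iff_not_dvd o.prime).mpr hn).symm).pow_right k

/-- Fixed elements of `H` cover each factor. -/
theorem exists_fixed_cover (s : Setup p V H F) (o : Operators q V H F τ) (hX : IsPGroup q X)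
    (hqH : ¬ q ∣ Nat.card H) {A : Subgroup G} (hA : Point p V H A) {e : G} (he : e ∈ factorGroup F A) :
    ∃ n ∈ H, (∀ x, τ x * n = n * τ x) ∧
      e⁻¹ * n ∈ centralizer (factorGroup F A : Set G) ⊓
        centralizer ((⁅V, factorGroup F A⁆ : Subgroup G) : Set G) := by
  classical
  set E := factorGroup F A with hE
  haveI := Fintype.ofFinite X
  have hEH : E ≤ H := factorGroup_le s hA
  let P : Subgroup X :=
    { carrier := {x | ∀ a ∈ E, τ x * a = a * τ x}
      one_mem' := fun a _ => by rw [map_one, one_mul, mul_one]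
      mul_mem' := fun {x y} hx hy a ha => by
        rw [map_mul, mul_assoc, hy a ha, ← mul_assoc, hx a ha, mul_assoc]
      inv_mem' := fun {x} hx a ha => by
        rw [map_inv]; exact ((show Commute (τ x) a from hx a ha).inv_left).eq }
  have hqE : ¬ q ∣ Nat.card E := fun h => hqH (h.trans (card_dvd_of_le hEH))
  obtain ⟨r, hr⟩ : ∃ r : E, r ^ Nat.card P = ⟨e, he⟩ :=
    ⟨(powCoprime (card_stab_coprime o hX P hqE)).symm ⟨e, he⟩,
      (powCoprime (card_stab_coprime o hX P hqE)).apply_symm_apply ⟨e, he⟩⟩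
  set c : X → G := fun x => τ x * (r : G) * (τ x)⁻¹ with hc
  set D := centralizer (E : Set G) ⊓ centralizer ((⁅V, E⁆ : Subgroup G) : Set G) with hD
  have hcase : ∀ x, (x ∈ P ∧ c x = r) ∨ (x ∉ P ∧ c x ∈ D) := by
    intro x
    by_cases hx : x ∈ P
    · exact Or.inl ⟨hx, by rw [hc]; simp only; rw [hx r r.2, mul_inv_cancel_right]⟩
    · rcases conj_cases s o hA x with h | h
      · exact absurd h.2 hx
      · exact Or.inr ⟨hx, h.1 ⟨r, r.2, rfl⟩⟩
  have hshift : ∀ x y, τ y * c x * (τ y)⁻¹ = c (y * x) := fun x y => by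
    simp only [hc, map_mul]; group
  have hcr : ∀ x, c x * r = r * c x := by
    intro x
    rcases hcase x with ⟨-, h⟩ | ⟨-, h⟩
    · rw [h]
    · exact (h.1 r r.2).symm
  have hcomm : ∀ x ∈ Set.range c, ∀ y ∈ Set.range c, x * y = y * x := by
    rintro _ ⟨x, rfl⟩ _ ⟨y, rfl⟩
    have e1 : c x = τ y * c (y⁻¹ * x) * (τ y)⁻¹ := by rw [hshift, mul_inv_cancel_left]
    have e2 : c y = τ y * r * (τ y)⁻¹ := rfl
    calc c x * c y = τ y * (c (y⁻¹ * x) * r) * (τ y)⁻¹ := by rw [e1, e2]; group
      _ = τ y * (r * c (y⁻¹ * x)) * (τ y)⁻¹ := by rw [hcr]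
      _ = c y * c x := by rw [e1, e2]; group
  haveI : IsMulCommutative (closure (Set.range c)) := isMulCommutative_closure hcomm
  let M := closure (Set.range c)
  let cM : X → M := fun x => ⟨c x, subset_closure ⟨x, rfl⟩⟩
  set n : M := ∏ x, cM x with hn
  have hcH : ∀ x, c x ∈ H := fun x => (mem_normalizer_iff.mp (o.norm_H x) _).mp (hEH r.2)
  refine ⟨n, (closure_le H).mpr (by rintro _ ⟨x, rfl⟩; exact hcH x) n.2, fun y => ?_, ?_⟩
  · have hφ : ∀ m ∈ M, τ y * m * (τ y)⁻¹ ∈ M := by
      intro m hm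
      have : M.map (MulAut.conj (τ y)).toMonoidHom ≤ M := by
        rw [MonoidHom.map_closure, closure_le]
        rintro _ ⟨_, ⟨x, rfl⟩, rfl⟩
        exact subset_closure ⟨y * x, (hshift x y).symm⟩
      exact this ⟨m, hm, rfl⟩
    let ψ : M →* M := (((MulAut.conj (τ y)).toMonoidHom).comp M.subtype).codRestrict M fun m => hφ m m.2
    have h1 : ψ n = n := by
      rw [hn, map_prod]
      exact Fintype.prod_equiv (Equiv.mulLeft y) _ _ fun x => Subtype.ext (hshift x y)
    have h2 : τ y * (n : G) * (τ y)⁻¹ = n := congrArg Subtype.val h1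
    exact mul_inv_eq_iff_eq_mul.mp h2
  · have h1 : ∏ x ∈ Finset.univ.filter (· ∈ P), cM x = cM 1 ^ Nat.card P := by
      rw [Finset.prod_congr rfl (g := fun _ => cM 1), Finset.prod_const]
      · congr 1
        rw [Nat.card_eq_fintype_card, Fintype.card_subtype]
      · intro x hx
        refine Subtype.ext ?_
        show c x = c 1
        rcases hcase x with h | h
        · rw [h.2]; simp [hc]
        · exact absurd (Finset.mem_filter.mp hx).2 h.1
    have h2 : (↑(∏ x ∈ Finset.univ.filter (¬ · ∈ P), cM x) : G) ∈ D := by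
      have : (∏ x ∈ Finset.univ.filter (¬ · ∈ P), cM x) ∈ D.subgroupOf M := by
        refine prod_mem fun x hx => ?_
        rcases hcase x with h | h
        · exact absurd h.1 (Finset.mem_filter.mp hx).2
        · exact h.2
      exact this
    have h3 : (n : G) = e * ↑(∏ x ∈ Finset.univ.filter (¬ · ∈ P), cM x) := by
      rw [hn, ← Finset.prod_filter_mul_prod_filter_not Finset.univ (· ∈ P), h1, MulMemClass.coe_mul]
      congr 1
      rw [SubmonoidClass.coe_pow]
      show c 1 ^ Nat.card P = e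
      rw [show c 1 = (r : G) by simp [hc], ← SubmonoidClass.coe_pow, hr]
    rw [h3, inv_mul_cancel_left]
    exact h2

end Cfsg.Agent.PLocal.Offender
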