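import Mathlib
import Cfsg.Agent.Lib.PLocal.Offender.Operator
import Cfsg.Agent.Lib.PLocal.Offender.Section
import Cfsg.Agent.Lib.Coprime.Action

/-!
A coprime group of operators of a group with failing Thompson factorization.
-/

set_option linter.all false
set_option autoImplicit false

namespace Cfsg.Agent.PLocal.Offender

open Subgroup Cfsg
open scoped commutatorElement

theorem zetaJoin_map {G : Type*} [Group G] [Finite G] {p : ℕ} [Fact p.Prime] (e : G ≃* G) :
    (zetaJoin p G).map e.toMonoidHom = zetaJoin p G := by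
  have h : ∀ a : G ≃* G, (zetaJoin p G).map a.toMonoidHom ≤ zetaJoin p G := by
    intro a
    rw [zetaJoin, Subgroup.map_iSup]
    refine iSup_le fun S => ?_
    rw [Omega.map_omega_center]
    refine le_iSup_of_le (S.mapSurjective (f := a.toMonoidHom) a.surjective) ?_
    exact le_rfl
  refine le_antisymm (h e) fun x hx => ⟨e.symm x, h e.symm ⟨x, hx, rfl⟩, by simp⟩

/-- The action of a normalizing subgroup by conjugation. -/
def conjAut {G : Type*} [Group G] {K X : Subgroup G} (hXK : X ≤ normalizer (K : Set G)) : X →* MulAut K :=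
  K.normalizerMonoidHom.comp (inclusion hXK)

theorem conjAut_coe {G : Type*} [Group G] {K X : Subgroup G} (hXK : X ≤ normalizer (K : Set G)) (x : X)
    (k : K) : ((conjAut hXK x k : K) : G) = (x : G) * k * (x : G)⁻¹ := rfl

variable {G : Type*} [Group G] [Finite G] {p : ℕ} [hp : Fact p.Prime] {K X : Subgroup G}

theorem conjAut_zeta (hXK : X ≤ normalizer (K : Set G)) (x : X) {z : K} (hz : z ∈ zetaJoin p K) :
    conjAut hXK x z ∈ zetaJoin p K :=
  (zetaJoin_map (p := p) (conjAut hXK x)).le ⟨z, hz, rfl⟩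

/-- The action on the join of the `Ω₁(Z(S))`. -/
def zetaAut (hXK : X ≤ normalizer (K : Set G)) : X →* MulAut (zetaJoin p K) where
  toFun x :=
    { toFun := fun z => ⟨conjAut hXK x z, conjAut_zeta hXK x z.2⟩
      invFun := fun z => ⟨conjAut hXK x⁻¹ z, conjAut_zeta hXK x⁻¹ z.2⟩
      left_inv := fun z => Subtype.ext (by simp)
      right_inv := fun z => Subtype.ext (by simp)
      map_mul' := fun a b => Subtype.ext (by simp) }
  map_one' := MulEquiv.ext fun z => Subtype.ext (by simp)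
  map_mul' x y := MulEquiv.ext fun z => Subtype.ext (by simp)

/-- The operators inside the semidirect product. -/
def tau (hXK : X ≤ normalizer (K : Set G)) : X →* Sec.Amb (zetaJoin p K) :=
  (SemidirectProduct.inr).comp (zetaAut hXK)

theorem conj_tau (hXK : X ≤ normalizer (K : Set G)) (x : X) (k : K) :
    tau (p := p) hXK x * Sec.img (zetaJoin p K) k * (tau hXK x)⁻¹ =
      Sec.img (zetaJoin p K) (conjAut hXK x k) := by
  rw [tau, Sec.img, MonoidHom.comp_apply, MonoidHom.comp_apply, MonoidHom.comp_apply,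
    ← map_inv (SemidirectProduct.inr : MulAut (zetaJoin p K) →* _), ← map_mul, ← map_mul]
  congr 1
  refine MulEquiv.ext fun z => Subtype.ext (Subtype.ext ?_)
  simp only [MulAut.mul_apply, ← map_inv, MulAut.conjNormal_apply]
  show ((x : G) * _ * (x : G)⁻¹ : G) = _
  simp only [Subgroup.coe_mul, Subgroup.coe_inv, MulAut.conjNormal_apply, conjAut_coe]
  rw [show (((zetaAut hXK x⁻¹ z : zetaJoin p K) : K) : G) = (x : G)⁻¹ * ((z : K) : G) * (x : G) from by
    show ((x⁻¹ : X) : G) * _ * ((x⁻¹ : X) : G)⁻¹ = _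
    rw [Subgroup.coe_inv, inv_inv]]
  group

variable (p) in
/-- The image of the Thompson subgroup of `K`. -/
def imgJ (K : Subgroup G) : Subgroup (Sec.Amb (zetaJoin p K)) :=
  (thompsonSubgroup p K).map (Sec.img (zetaJoin p K))

variable (p) in
/-- The `p'`-core of the image. -/
def imgF (K : Subgroup G) : Subgroup (Sec.Amb (zetaJoin p K)) :=
  (pPrimeCore p ↥(imgJ p K)).map (imgJ p K).subtype

variable (p) in
/-- The abbreviation for the module. -/
def imgV (K : Subgroup G) : Subgroup (Sec.Amb (zetaJoin p K)) := Sec.base (zetaJoin p K)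

theorem img_setup (hsep : IsPSolvable p ↥K) (hO : pPrimeCore p ↥K = ⊥) :
    Setup p (imgV p K) (imgJ p K) (imgF p K) :=
  Sec.setup (zetaJoin p K) (zetaJoin_elem hsep hO) hsep pCore_quotient_zetaJoin

theorem img_gen (hsep : IsPSolvable p ↥K) (hO : pPrimeCore p ↥K = ⊥) :
    imgJ p K = ⨆ A : {A : Subgroup (Sec.Amb (zetaJoin p K)) // A ≤ imgJ p K ∧
      IsBestOffenderOn p (imgV p K) A}, (A : Subgroup (Sec.Amb (zetaJoin p K))) :=
  map_thompson_gen (zetaJoin p K) (zetaJoin_elem hsep hO)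

theorem tau_norm_V (hXK : X ≤ normalizer (K : Set G)) (x : X) :
    tau (p := p) hXK x ∈ normalizer (imgV p K : Set (Sec.Amb (zetaJoin p K))) := by
  refine GlaubermanReplacement.mem_normalizer_of_conj_mem ?_
  rintro _ ⟨z, rfl⟩
  refine ⟨zetaAut hXK x z, ?_⟩
  rw [tau, MonoidHom.comp_apply, ← map_inv (SemidirectProduct.inr : MulAut (zetaJoin p K) →* _),
    ← SemidirectProduct.inl_aut]
  rfl

theorem tau_norm_H (hXK : X ≤ normalizer (K : Set G)) (x : X) :
    tau (p := p) hXK x ∈ normalizer (imgJ p K : Set (Sec.Amb (zetaJoin p K))) := by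
  refine GlaubermanReplacement.mem_normalizer_of_conj_mem ?_
  rintro _ ⟨k, hk, rfl⟩
  rw [conj_tau]
  exact ⟨_, (ThompsonSubgroup.map_thompsonSubgroup_equiv (conjAut hXK x)).le ⟨k, hk, rfl⟩, rfl⟩

theorem tau_norm_F (hXK : X ≤ normalizer (K : Set G)) (x : X) :
    tau (p := p) hXK x ∈ normalizer (imgF p K : Set (Sec.Amb (zetaJoin p K))) := by
  set H := imgJ p K
  set t := tau (p := p) hXK x
  have he : H.map (MulAut.conj t).toMonoidHom = H := mem_normalizer_iff_map_conj_eq.mp (tau_norm_H hXK x)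
  let e : H ≃* H := ((MulAut.conj t).subgroupMap H).trans (MulEquiv.subgroupCongr he)
  refine GlaubermanReplacement.mem_normalizer_of_conj_mem ?_
  rintro _ ⟨y, hy, rfl⟩
  exact ⟨e y, (Cores.map_pPrimeCore_equiv e).le ⟨y, hy, rfl⟩, rfl⟩

theorem card_imgJ_dvd : Nat.card ↥(imgJ p K) ∣ Nat.card K :=
  (card_map_dvd _ _).trans (card_subgroup_dvd_card _)

variable {q : ℕ} [hq : Fact q.Prime]

theorem operators (hXK : X ≤ normalizer (K : Set G)) (hsep : IsPSolvable p ↥K)
    (hO : pPrimeCore p ↥K = ⊥) (hX : IsElementaryAbelian q X) (hqK : ¬ q ∣ Nat.card K)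
    {A : Subgroup (Sec.Amb (zetaJoin p K))} (hA : Point p (imgV p K) (imgJ p K) A) :
    Operators q (imgV p K) (imgJ p K) (imgF p K) (tau hXK) := by
  obtain ⟨h2, h3⟩ := prime_ne_of_not_dvd (img_setup hsep hO) hA hq.out
    (fun h => hqK (h.trans card_imgJ_dvd))
  refine ⟨hq.out, h2, h3, fun x => ?_, tau_norm_V hXK, tau_norm_H hXK, tau_norm_F hXK⟩
  rw [← map_pow, show x ^ q = 1 from Subtype.ext (hX.2 x x.2), map_one]

theorem coprime_card (hX : IsElementaryAbelian q X) (hqK : ¬ q ∣ Nat.card K) :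
    (Nat.card X).Coprime (Nat.card K) := by
  obtain ⟨k, hk⟩ := (ThompsonSubgroup.IsElementaryAbelian.isPGroup hX).exists_card_eq
  rw [hk]
  exact ((Nat.Prime.coprime_iff_not_dvd hq.out).mpr hqK).pow_left k

/-- A fixed element of an equivariant image is the image of a fixed element. -/
theorem fixed_lift {T : Type*} [Group T] (hXK : X ≤ normalizer (K : Set G)) (hX : IsElementaryAbelian q X)
    (hqK : ¬ q ∣ Nat.card K) (f : K →* T) (t : X →* T)
    (ht : ∀ x k, t x * f k * (t x)⁻¹ = f (conjAut hXK x k)) {k : K}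
    (hfix : ∀ x, t x * f k = f k * t x) :
    ∃ c : K, (c : G) ∈ centralizer (X : Set G) ∧ f c = f k := by
  set N := f.ker.map K.subtype with hN
  have hNK : N ≤ K := map_subtype_le _
  have hKN : K ≤ normalizer (N : Set G) := by
    intro a ha
    refine GlaubermanReplacement.mem_normalizer_of_conj_mem ?_
    rintro _ ⟨y, hy, rfl⟩
    exact ⟨⟨a, ha⟩ * y * ⟨a, ha⟩⁻¹, (inferInstance : f.ker.Normal).conj_mem y hy _, rfl⟩
  have hXN : X ≤ normalizer (N : Set G) := by
    intro x hx
    refine GlaubermanReplacement.mem_normalizer_of_conj_mem ?_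
    rintro _ ⟨y, hy, rfl⟩
    refine ⟨conjAut hXK ⟨x, hx⟩ y, ?_, rfl⟩
    rw [SetLike.mem_coe, MonoidHom.mem_ker, ← ht, show f y = 1 from hy, mul_one, mul_inv_cancel]
  haveI := hX.1
  obtain ⟨c, ⟨hcK, hcX⟩, hkc⟩ := Coprime.exists_fixed_mod (coprime_card hX hqK)
    (Or.inl (Coprime.isSolvable_of_isMulCommutative X)) hNK hKN hXN k.2 (fun x hx => by
      refine ⟨conjAut hXK ⟨x, hx⟩ k * k⁻¹, ?_, rfl⟩
      rw [SetLike.mem_coe, MonoidHom.mem_ker, map_mul, map_inv, ← ht, hfix, mul_inv_cancel_right,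
        mul_inv_cancel])
  obtain ⟨y, hy, hye⟩ := hkc
  refine ⟨⟨c, hcK⟩, hcX, ?_⟩
  have : (⟨c, hcK⟩ : K) = k * y := Subtype.ext (by
    show c = (k : G) * (y : G)
    rw [show (y : G) = (k : G)⁻¹ * c from hye, mul_inv_cancel_left])
  rw [this, map_mul, show f y = 1 from hy, mul_one]

/-- A fixed element of the image is the image of a fixed element. -/
theorem exists_fixed_lift (hXK : X ≤ normalizer (K : Set G)) (hX : IsElementaryAbelian q X)
    (hqK : ¬ q ∣ Nat.card K) {n : Sec.Amb (zetaJoin p K)} (hn : n ∈ imgJ p K)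
    (hfix : ∀ x, tau (p := p) hXK x * n = n * tau hXK x) :
    ∃ c : K, (c : G) ∈ centralizer (X : Set G) ∧ Sec.img (zetaJoin p K) c = n := by
  obtain ⟨k, -, rfl⟩ := hn
  exact fixed_lift hXK hX hqK (Sec.img (zetaJoin p K)) (tau hXK) (conj_tau hXK) hfix

/-- Elements of the fixed subgroup realise each factor. -/
theorem exists_fixed_element (hXK : X ≤ normalizer (K : Set G)) (hsep : IsPSolvable p ↥K)
    (hO : pPrimeCore p ↥K = ⊥) (hX : IsElementaryAbelian q X) (hqK : ¬ q ∣ Nat.card K)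
    {A : Subgroup (Sec.Amb (zetaJoin p K))} (hA : Point p (imgV p K) (imgJ p K) A)
    {e : Sec.Amb (zetaJoin p K)} (he : e ∈ factorGroup (imgF p K) A) :
    ∃ c : K, (c : G) ∈ centralizer (X : Set G) ∧ Sec.img (zetaJoin p K) c ∈ imgJ p K ∧
      e⁻¹ * Sec.img (zetaJoin p K) c ∈ centralizer (factorGroup (imgF p K) A : Set (Sec.Amb (zetaJoin p K))) ⊓
        centralizer ((⁅imgV p K, factorGroup (imgF p K) A⁆ : Subgroup _) : Set (Sec.Amb (zetaJoin p K))) := by
  obtain ⟨n, hn, hfix, hne⟩ := exists_fixed_cover (img_setup hsep hO) (operators hXK hsep hO hX hqK hA)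
    (ThompsonSubgroup.IsElementaryAbelian.isPGroup hX) (fun h => hqK (h.trans card_imgJ_dvd)) hA he
  obtain ⟨c, hc, hce⟩ := exists_fixed_lift hXK hX hqK hn hfix
  exact ⟨c, hc, hce ▸ hn, hce ▸ hne⟩

end Cfsg.Agent.PLocal.Offender
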